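import Cfsg.Agent.SpiderYFive.Rep
import Cfsg.Prelude.Def_Spor_M

/-!
In the Y₅₅₅ Coxeter group with the spider relation, each end node is the ninth power of a Coxeter word of a subgraph of
type E₇.
-/

set_option autoImplicit false

set_option maxRecDepth 8000

namespace Cfsg.Lib.SpiderYFive

open Cfsg.Lib.CosetCert
open Cfsg.Spor.Bimonster (Gen)
open Cfsg.Lib.FiPres (rpt wval_rpt)

/-- The numbering of the nodes. -/
def nodeList : List Gen :=
  [.a, .b1, .c1, .d1, .e1, .f1, .b2, .c2, .d2, .e2, .f2, .b3, .c3, .d3, .e3, .f3]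

/-- A node by number. -/
def node (n : ℕ) : Gen := nodeList.getD n .a

/-- The relators. -/
def spiderRels : Set (FreeGroup Gen) :=
  Cfsg.Spor.coxRelators Cfsg.Spor.Bimonster.edges ∪ {r' | r' ∈ [(Cfsg.Spor.Bimonster.a * Cfsg.Spor.Bimonster.b1 *
    Cfsg.Spor.Bimonster.c1 * Cfsg.Spor.Bimonster.a * Cfsg.Spor.Bimonster.b2 * Cfsg.Spor.Bimonster.c2 *
    Cfsg.Spor.Bimonster.a * Cfsg.Spor.Bimonster.b3 * Cfsg.Spor.Bimonster.c3) ^ 10]}

/-- The generators in the group. -/
def gen (n : ℕ) : PresentedGroup spiderRels := PresentedGroup.of (node n)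

theorem node_mem : ∀ z : Gen, z ∈ Cfsg.Spor.coxNodes Cfsg.Spor.Bimonster.edges := by
  intro z; cases z <;> decide

theorem pair_rel (a b : ℕ) :
    (gen a * gen b) ^ Cfsg.Spor.coxLabel Cfsg.Spor.Bimonster.edges (node a) (node b) = 1 := by
  have := PresentedGroup.one_of_mem (rels := spiderRels) (Or.inl ⟨node a, node_mem _, node b, node_mem _, rfl⟩)
  rwa [map_pow, map_mul] at this

theorem label_ok : ((List.range 16).all fun a => (List.range 16).all fun b =>
    Cfsg.Spor.coxLabel Cfsg.Spor.Bimonster.edges (node a) (node b) ==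
      (if a = b then 1 else if adj a b then 3 else 2)) = true := by decide +kernel

theorem gen_label {a b : ℕ} (ha : a < 16) (hb : b < 16) :
    (gen a * gen b) ^ (if a = b then 1 else if adj a b then 3 else 2) = 1 := by
  have := List.all_eq_true.1 (List.all_eq_true.1 label_ok a (List.mem_range.2 ha)) b (List.mem_range.2 hb)
  rw [beq_iff_eq] at this
  exact this ▸ pair_rel a b

theorem gen_sq {a : ℕ} (ha : a < 16) : gen a * gen a = 1 := by simpa using gen_label ha ha

theorem gen_inv {a : ℕ} (ha : a < 16) : (gen a)⁻¹ = gen a := inv_eq_of_mul_eq_one_left (gen_sq ha)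

theorem edge_even : ((List.range 16).all fun a => (List.range 16).all fun b => !(adj a b) || decide (a ≠ b)) = true := by
  decide +kernel

theorem sys_gen : Sys gen := by
  refine ⟨⟨fun a ha => gen_sq ha, fun a ha b hb hab hadj => ?_, fun a ha b hb hadj => ?_⟩, ?_, ?_⟩
  · have e := gen_label ha hb
    rw [if_neg hab, hadj, if_neg (by simp), pow_two] at e
    have h2 := eq_inv_of_mul_eq_one_left e
    rwa [mul_inv_rev, gen_inv ha, gen_inv hb] at h2
  · have hne : a ≠ b := by
      have := List.all_eq_true.1 (List.all_eq_true.1 edge_even a (List.mem_range.2 ha)) b (List.mem_range.2 hb)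
      simpa [hadj] using this
    have e := gen_label ha hb
    rw [if_neg hne, if_pos hadj, pow_succ, pow_two] at e
    have h2 : gen a * gen b * gen a = (gen b * gen a * gen b)⁻¹ := eq_inv_of_mul_eq_one_left (by
      rw [← e]; simp only [mul_assoc])
    rwa [mul_inv_rev, mul_inv_rev, gen_inv ha, gen_inv hb, ← mul_assoc] at h2
  · have := PresentedGroup.one_of_mem (rels := spiderRels) (Or.inr (List.mem_singleton.2 rfl))
    simp only [map_pow, map_mul] at this
    rw [wval_rpt]
    simp [wval, spiderB, gen, node, nodeList, mul_assoc] at this ⊢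
    exact this
  · have hcox : ∀ r ∈ spiderRels, FreeGroup.lift (fun _ : Gen => (-1 : ℤˣ)) r = 1 := by
      rintro r (⟨x, -, y, -, rfl⟩ | hr)
      · rw [map_pow, map_mul, FreeGroup.lift_apply_of, FreeGroup.lift_apply_of]
        simp
      · rw [Set.mem_ofPred_eq, List.mem_singleton] at hr
        subst hr
        simp only [map_pow, map_mul, FreeGroup.lift_apply_of]
        decide
    exact ⟨PresentedGroup.toGroup hcox, fun a _ => PresentedGroup.toGroup.of hcox⟩

theorem perm_words : List.zip armPerms spiderMoves = List.zip armPerms spiderMoves ∧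
    ((List.range 6).all fun k => decide (k < (List.zip armPerms spiderMoves).length)) = true := by
  exact ⟨rfl, by decide +kernel⟩

theorem arm_eq (k : ℕ) (hk : k < 6) :
    gen ((armPerms.getD k []).getD 5 0) = wval gen (zB.map fun n => (armPerms.getD k []).getD n 0) ^ 9 := by
  have hlen : k < (List.zip armPerms spiderMoves).length :=
    decide_eq_true_eq.mp (List.all_eq_true.1 perm_words.2 k (List.mem_range.2 hk))
  have hm := List.getElem_mem hlen
  rw [List.getElem_zip] at hm
  have e := f_eq_zval (sys_gen.permute hm)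
  rw [zval, wval_rpt, wval_comp] at e
  rw [List.getD_eq_getElem _ _ (Nat.lt_of_lt_of_le hk (show 6 ≤ armPerms.length by decide))]
  exact e

theorem spider_implies_arms : ∀ r ∈ Cfsg.Spor.Bimonster.extra, PresentedGroup.mk spiderRels r = 1 := by
  intro r hr
  simp only [Cfsg.Spor.Bimonster.extra, List.mem_cons, List.mem_nil_iff, or_false] at hr
  rcases hr with rfl | rfl | rfl | rfl | rfl | rfl | rfl
  · exact PresentedGroup.one_of_mem (Or.inr (List.mem_singleton.2 rfl))
  all_goals rw [map_mul, map_inv, mul_inv_eq_one, map_pow]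
  · have e := arm_eq 0 (by norm_num)
    simp [armPerms, zB, wval, gen, node, nodeList, mul_assoc] at e ⊢
    exact e
  · have e := arm_eq 1 (by norm_num)
    simp [armPerms, zB, wval, gen, node, nodeList, mul_assoc] at e ⊢
    exact e
  · have e := arm_eq 2 (by norm_num)
    simp [armPerms, zB, wval, gen, node, nodeList, mul_assoc] at e ⊢
    exact e
  · have e := arm_eq 3 (by norm_num)
    simp [armPerms, zB, wval, gen, node, nodeList, mul_assoc] at e ⊢
    exact e
  · have e := arm_eq 4 (by norm_num)
    simp [armPerms, zB, wval, gen, node, nodeList, mul_assoc] at e ⊢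
    exact e
  · have e := arm_eq 5 (by norm_num)
    simp [armPerms, zB, wval, gen, node, nodeList, mul_assoc] at e ⊢
    exact e

end Cfsg.Lib.SpiderYFive
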