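import Cfsg.Agent.SpiderYFive.C0Data

/-!
The certificate is valid.
-/

set_option autoImplicit false

namespace Cfsg.Lib.SpiderYFive.C0

open Cfsg.Lib.CosetCert

theorem steps0_ok : cert.stepsOK 0 steps0 = true ∧ ruleBound spec.length steps0 = true := by decide +kernel

theorem steps1_ok : cert.stepsOK 256 steps1 = true ∧ ruleBound spec.length steps1 = true := by decide +kernel

theorem steps2_ok : cert.stepsOK 512 steps2 = true ∧ ruleBound spec.length steps2 = true := by decide +kernel

def cat0x0_0 : List (ℕ × ℕ) := steps0 ++ steps1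

theorem cat0x0_0_ok : cert.stepsOK 0 cat0x0_0 = true ∧ ruleBound spec.length cat0x0_0 = true :=
  stepsOK_cat steps0_ok steps1_ok (by decide +kernel)

def cat0x1_0 : List (ℕ × ℕ) := cat0x0_0 ++ steps2

theorem cat0x1_0_ok : cert.stepsOK 0 cat0x1_0 = true ∧ ruleBound spec.length cat0x1_0 = true :=
  stepsOK_cat cat0x0_0_ok steps2_ok (by decide +kernel)

theorem spec_ok : cert.rotsOK rels spec = true := by decide +kernel

def allSteps : List (ℕ × ℕ) := cat0x1_0

theorem allSteps_ok : cert.stepsOK 0 allSteps = true ∧ ruleBound spec.length allSteps = true := cat0x1_0_ok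

end Cfsg.Lib.SpiderYFive.C0
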