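import Cfsg.Agent.SpiderYFive.C4Data

/-!
The certificate is valid.
-/

set_option autoImplicit false

namespace Cfsg.Lib.SpiderYFive.C4

open Cfsg.Lib.CosetCert

theorem steps0_ok : cert.stepsOK 0 steps0 = true ∧ ruleBound spec.length steps0 = true := by decide +kernel

theorem steps1_ok : cert.stepsOK 256 steps1 = true ∧ ruleBound spec.length steps1 = true := by decide +kernel

theorem steps2_ok : cert.stepsOK 512 steps2 = true ∧ ruleBound spec.length steps2 = true := by decide +kernel

theorem steps3_ok : cert.stepsOK 768 steps3 = true ∧ ruleBound spec.length steps3 = true := by decide +kernel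

theorem steps4_ok : cert.stepsOK 1024 steps4 = true ∧ ruleBound spec.length steps4 = true := by decide +kernel

theorem steps5_ok : cert.stepsOK 1280 steps5 = true ∧ ruleBound spec.length steps5 = true := by decide +kernel

theorem steps6_ok : cert.stepsOK 1536 steps6 = true ∧ ruleBound spec.length steps6 = true := by decide +kernel

theorem steps7_ok : cert.stepsOK 1792 steps7 = true ∧ ruleBound spec.length steps7 = true := by decide +kernel

theorem steps8_ok : cert.stepsOK 2048 steps8 = true ∧ ruleBound spec.length steps8 = true := by decide +kernel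

theorem steps9_ok : cert.stepsOK 2304 steps9 = true ∧ ruleBound spec.length steps9 = true := by decide +kernel

theorem steps10_ok : cert.stepsOK 2560 steps10 = true ∧ ruleBound spec.length steps10 = true := by decide +kernel

theorem steps11_ok : cert.stepsOK 2816 steps11 = true ∧ ruleBound spec.length steps11 = true := by decide +kernel

theorem steps12_ok : cert.stepsOK 3072 steps12 = true ∧ ruleBound spec.length steps12 = true := by decide +kernel

theorem steps13_ok : cert.stepsOK 3328 steps13 = true ∧ ruleBound spec.length steps13 = true := by decide +kernel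

theorem steps14_ok : cert.stepsOK 3584 steps14 = true ∧ ruleBound spec.length steps14 = true := by decide +kernel

theorem steps15_ok : cert.stepsOK 3840 steps15 = true ∧ ruleBound spec.length steps15 = true := by decide +kernel

theorem steps16_ok : cert.stepsOK 4096 steps16 = true ∧ ruleBound spec.length steps16 = true := by decide +kernel

theorem steps17_ok : cert.stepsOK 4352 steps17 = true ∧ ruleBound spec.length steps17 = true := by decide +kernel

theorem steps18_ok : cert.stepsOK 4608 steps18 = true ∧ ruleBound spec.length steps18 = true := by decide +kernel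

theorem steps19_ok : cert.stepsOK 4864 steps19 = true ∧ ruleBound spec.length steps19 = true := by decide +kernel

theorem steps20_ok : cert.stepsOK 5120 steps20 = true ∧ ruleBound spec.length steps20 = true := by decide +kernel

theorem steps21_ok : cert.stepsOK 5376 steps21 = true ∧ ruleBound spec.length steps21 = true := by decide +kernel

theorem steps22_ok : cert.stepsOK 5632 steps22 = true ∧ ruleBound spec.length steps22 = true := by decide +kernel

theorem steps23_ok : cert.stepsOK 5888 steps23 = true ∧ ruleBound spec.length steps23 = true := by decide +kernel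

theorem steps24_ok : cert.stepsOK 6144 steps24 = true ∧ ruleBound spec.length steps24 = true := by decide +kernel

theorem steps25_ok : cert.stepsOK 6400 steps25 = true ∧ ruleBound spec.length steps25 = true := by decide +kernel

theorem steps26_ok : cert.stepsOK 6656 steps26 = true ∧ ruleBound spec.length steps26 = true := by decide +kernel

theorem steps27_ok : cert.stepsOK 6912 steps27 = true ∧ ruleBound spec.length steps27 = true := by decide +kernel

def cat0x0_0 : List (ℕ × ℕ) := steps0 ++ steps1

theorem cat0x0_0_ok : cert.stepsOK 0 cat0x0_0 = true ∧ ruleBound spec.length cat0x0_0 = true :=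
  stepsOK_cat steps0_ok steps1_ok (by decide +kernel)

def cat0x0_1 : List (ℕ × ℕ) := steps2 ++ steps3

theorem cat0x0_1_ok : cert.stepsOK 512 cat0x0_1 = true ∧ ruleBound spec.length cat0x0_1 = true :=
  stepsOK_cat steps2_ok steps3_ok (by decide +kernel)

def cat0x0_2 : List (ℕ × ℕ) := steps4 ++ steps5

theorem cat0x0_2_ok : cert.stepsOK 1024 cat0x0_2 = true ∧ ruleBound spec.length cat0x0_2 = true :=
  stepsOK_cat steps4_ok steps5_ok (by decide +kernel)

def cat0x0_3 : List (ℕ × ℕ) := steps6 ++ steps7

theorem cat0x0_3_ok : cert.stepsOK 1536 cat0x0_3 = true ∧ ruleBound spec.length cat0x0_3 = true :=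
  stepsOK_cat steps6_ok steps7_ok (by decide +kernel)

def cat0x0_4 : List (ℕ × ℕ) := steps8 ++ steps9

theorem cat0x0_4_ok : cert.stepsOK 2048 cat0x0_4 = true ∧ ruleBound spec.length cat0x0_4 = true :=
  stepsOK_cat steps8_ok steps9_ok (by decide +kernel)

def cat0x0_5 : List (ℕ × ℕ) := steps10 ++ steps11

theorem cat0x0_5_ok : cert.stepsOK 2560 cat0x0_5 = true ∧ ruleBound spec.length cat0x0_5 = true :=
  stepsOK_cat steps10_ok steps11_ok (by decide +kernel)

def cat0x0_6 : List (ℕ × ℕ) := steps12 ++ steps13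

theorem cat0x0_6_ok : cert.stepsOK 3072 cat0x0_6 = true ∧ ruleBound spec.length cat0x0_6 = true :=
  stepsOK_cat steps12_ok steps13_ok (by decide +kernel)

def cat0x0_7 : List (ℕ × ℕ) := steps14 ++ steps15

theorem cat0x0_7_ok : cert.stepsOK 3584 cat0x0_7 = true ∧ ruleBound spec.length cat0x0_7 = true :=
  stepsOK_cat steps14_ok steps15_ok (by decide +kernel)

def cat0x0_8 : List (ℕ × ℕ) := steps16 ++ steps17

theorem cat0x0_8_ok : cert.stepsOK 4096 cat0x0_8 = true ∧ ruleBound spec.length cat0x0_8 = true :=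
  stepsOK_cat steps16_ok steps17_ok (by decide +kernel)

def cat0x0_9 : List (ℕ × ℕ) := steps18 ++ steps19

theorem cat0x0_9_ok : cert.stepsOK 4608 cat0x0_9 = true ∧ ruleBound spec.length cat0x0_9 = true :=
  stepsOK_cat steps18_ok steps19_ok (by decide +kernel)

def cat0x0_10 : List (ℕ × ℕ) := steps20 ++ steps21

theorem cat0x0_10_ok : cert.stepsOK 5120 cat0x0_10 = true ∧ ruleBound spec.length cat0x0_10 = true :=
  stepsOK_cat steps20_ok steps21_ok (by decide +kernel)

def cat0x0_11 : List (ℕ × ℕ) := steps22 ++ steps23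

theorem cat0x0_11_ok : cert.stepsOK 5632 cat0x0_11 = true ∧ ruleBound spec.length cat0x0_11 = true :=
  stepsOK_cat steps22_ok steps23_ok (by decide +kernel)

def cat0x0_12 : List (ℕ × ℕ) := steps24 ++ steps25

theorem cat0x0_12_ok : cert.stepsOK 6144 cat0x0_12 = true ∧ ruleBound spec.length cat0x0_12 = true :=
  stepsOK_cat steps24_ok steps25_ok (by decide +kernel)

def cat0x0_13 : List (ℕ × ℕ) := steps26 ++ steps27

theorem cat0x0_13_ok : cert.stepsOK 6656 cat0x0_13 = true ∧ ruleBound spec.length cat0x0_13 = true :=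
  stepsOK_cat steps26_ok steps27_ok (by decide +kernel)

def cat0x1_0 : List (ℕ × ℕ) := cat0x0_0 ++ cat0x0_1

theorem cat0x1_0_ok : cert.stepsOK 0 cat0x1_0 = true ∧ ruleBound spec.length cat0x1_0 = true :=
  stepsOK_cat cat0x0_0_ok cat0x0_1_ok (by decide +kernel)

def cat0x1_1 : List (ℕ × ℕ) := cat0x0_2 ++ cat0x0_3

theorem cat0x1_1_ok : cert.stepsOK 1024 cat0x1_1 = true ∧ ruleBound spec.length cat0x1_1 = true :=
  stepsOK_cat cat0x0_2_ok cat0x0_3_ok (by decide +kernel)

def cat0x1_2 : List (ℕ × ℕ) := cat0x0_4 ++ cat0x0_5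

theorem cat0x1_2_ok : cert.stepsOK 2048 cat0x1_2 = true ∧ ruleBound spec.length cat0x1_2 = true :=
  stepsOK_cat cat0x0_4_ok cat0x0_5_ok (by decide +kernel)

def cat0x1_3 : List (ℕ × ℕ) := cat0x0_6 ++ cat0x0_7

theorem cat0x1_3_ok : cert.stepsOK 3072 cat0x1_3 = true ∧ ruleBound spec.length cat0x1_3 = true :=
  stepsOK_cat cat0x0_6_ok cat0x0_7_ok (by decide +kernel)

def cat0x1_4 : List (ℕ × ℕ) := cat0x0_8 ++ cat0x0_9

theorem cat0x1_4_ok : cert.stepsOK 4096 cat0x1_4 = true ∧ ruleBound spec.length cat0x1_4 = true :=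
  stepsOK_cat cat0x0_8_ok cat0x0_9_ok (by decide +kernel)

def cat0x1_5 : List (ℕ × ℕ) := cat0x0_10 ++ cat0x0_11

theorem cat0x1_5_ok : cert.stepsOK 5120 cat0x1_5 = true ∧ ruleBound spec.length cat0x1_5 = true :=
  stepsOK_cat cat0x0_10_ok cat0x0_11_ok (by decide +kernel)

def cat0x1_6 : List (ℕ × ℕ) := cat0x0_12 ++ cat0x0_13

theorem cat0x1_6_ok : cert.stepsOK 6144 cat0x1_6 = true ∧ ruleBound spec.length cat0x1_6 = true :=
  stepsOK_cat cat0x0_12_ok cat0x0_13_ok (by decide +kernel)

def cat0x2_0 : List (ℕ × ℕ) := cat0x1_0 ++ cat0x1_1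

theorem cat0x2_0_ok : cert.stepsOK 0 cat0x2_0 = true ∧ ruleBound spec.length cat0x2_0 = true :=
  stepsOK_cat cat0x1_0_ok cat0x1_1_ok (by decide +kernel)

def cat0x2_1 : List (ℕ × ℕ) := cat0x1_2 ++ cat0x1_3

theorem cat0x2_1_ok : cert.stepsOK 2048 cat0x2_1 = true ∧ ruleBound spec.length cat0x2_1 = true :=
  stepsOK_cat cat0x1_2_ok cat0x1_3_ok (by decide +kernel)

def cat0x2_2 : List (ℕ × ℕ) := cat0x1_4 ++ cat0x1_5

theorem cat0x2_2_ok : cert.stepsOK 4096 cat0x2_2 = true ∧ ruleBound spec.length cat0x2_2 = true :=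
  stepsOK_cat cat0x1_4_ok cat0x1_5_ok (by decide +kernel)

def cat0x3_0 : List (ℕ × ℕ) := cat0x2_0 ++ cat0x2_1

theorem cat0x3_0_ok : cert.stepsOK 0 cat0x3_0 = true ∧ ruleBound spec.length cat0x3_0 = true :=
  stepsOK_cat cat0x2_0_ok cat0x2_1_ok (by decide +kernel)

def cat0x3_1 : List (ℕ × ℕ) := cat0x2_2 ++ cat0x1_6

theorem cat0x3_1_ok : cert.stepsOK 4096 cat0x3_1 = true ∧ ruleBound spec.length cat0x3_1 = true :=
  stepsOK_cat cat0x2_2_ok cat0x1_6_ok (by decide +kernel)

def cat0x4_0 : List (ℕ × ℕ) := cat0x3_0 ++ cat0x3_1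

theorem cat0x4_0_ok : cert.stepsOK 0 cat0x4_0 = true ∧ ruleBound spec.length cat0x4_0 = true :=
  stepsOK_cat cat0x3_0_ok cat0x3_1_ok (by decide +kernel)

theorem spec_ok : cert.rotsOK rels spec = true := by decide +kernel

def allSteps : List (ℕ × ℕ) := cat0x4_0

theorem allSteps_ok : cert.stepsOK 0 allSteps = true ∧ ruleBound spec.length allSteps = true := cat0x4_0_ok

end Cfsg.Lib.SpiderYFive.C4
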