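import Cfsg.Agent.SpiderYFive.C6Data

/-!
The certificate is valid.
-/

set_option autoImplicit false

namespace Cfsg.Lib.SpiderYFive.C6

open Cfsg.Lib.CosetCert

theorem steps18_ok : cert.stepsOK 4608 steps18 = true ∧ ruleBound spec.length steps18 = true := by decide +kernel

theorem steps19_ok : cert.stepsOK 4864 steps19 = true ∧ ruleBound spec.length steps19 = true := by decide +kernel

theorem steps20_ok : cert.stepsOK 5120 steps20 = true ∧ ruleBound spec.length steps20 = true := by decide +kernel

theorem steps21_ok : cert.stepsOK 5376 steps21 = true ∧ ruleBound spec.length steps21 = true := by decide +kernel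

theorem steps22_ok : cert.stepsOK 5632 steps22 = true ∧ ruleBound spec.length steps22 = true := by decide +kernel

theorem steps23_ok : cert.stepsOK 5888 steps23 = true ∧ ruleBound spec.length steps23 = true := by decide +kernel

theorem steps24_ok : cert.stepsOK 6144 steps24 = true ∧ ruleBound spec.length steps24 = true := by decide +kernel

theorem steps25_ok : cert.stepsOK 6400 steps25 = true ∧ ruleBound spec.length steps25 = true := by decide +kernel

theorem steps26_ok : cert.stepsOK 6656 steps26 = true ∧ ruleBound spec.length steps26 = true := by decide +kernel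

theorem steps27_ok : cert.stepsOK 6912 steps27 = true ∧ ruleBound spec.length steps27 = true := by decide +kernel

theorem steps28_ok : cert.stepsOK 7168 steps28 = true ∧ ruleBound spec.length steps28 = true := by decide +kernel

theorem steps29_ok : cert.stepsOK 7424 steps29 = true ∧ ruleBound spec.length steps29 = true := by decide +kernel

theorem steps30_ok : cert.stepsOK 7680 steps30 = true ∧ ruleBound spec.length steps30 = true := by decide +kernel

theorem steps31_ok : cert.stepsOK 7936 steps31 = true ∧ ruleBound spec.length steps31 = true := by decide +kernel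

theorem steps32_ok : cert.stepsOK 8192 steps32 = true ∧ ruleBound spec.length steps32 = true := by decide +kernel

theorem steps33_ok : cert.stepsOK 8448 steps33 = true ∧ ruleBound spec.length steps33 = true := by decide +kernel

theorem steps34_ok : cert.stepsOK 8704 steps34 = true ∧ ruleBound spec.length steps34 = true := by decide +kernel

theorem steps35_ok : cert.stepsOK 8960 steps35 = true ∧ ruleBound spec.length steps35 = true := by decide +kernel

def cat1x0_0 : List (ℕ × ℕ) := steps18 ++ steps19

theorem cat1x0_0_ok : cert.stepsOK 4608 cat1x0_0 = true ∧ ruleBound spec.length cat1x0_0 = true :=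
  stepsOK_cat steps18_ok steps19_ok (by decide +kernel)

def cat1x0_1 : List (ℕ × ℕ) := steps20 ++ steps21

theorem cat1x0_1_ok : cert.stepsOK 5120 cat1x0_1 = true ∧ ruleBound spec.length cat1x0_1 = true :=
  stepsOK_cat steps20_ok steps21_ok (by decide +kernel)

def cat1x0_2 : List (ℕ × ℕ) := steps22 ++ steps23

theorem cat1x0_2_ok : cert.stepsOK 5632 cat1x0_2 = true ∧ ruleBound spec.length cat1x0_2 = true :=
  stepsOK_cat steps22_ok steps23_ok (by decide +kernel)

def cat1x0_3 : List (ℕ × ℕ) := steps24 ++ steps25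

theorem cat1x0_3_ok : cert.stepsOK 6144 cat1x0_3 = true ∧ ruleBound spec.length cat1x0_3 = true :=
  stepsOK_cat steps24_ok steps25_ok (by decide +kernel)

def cat1x0_4 : List (ℕ × ℕ) := steps26 ++ steps27

theorem cat1x0_4_ok : cert.stepsOK 6656 cat1x0_4 = true ∧ ruleBound spec.length cat1x0_4 = true :=
  stepsOK_cat steps26_ok steps27_ok (by decide +kernel)

def cat1x0_5 : List (ℕ × ℕ) := steps28 ++ steps29

theorem cat1x0_5_ok : cert.stepsOK 7168 cat1x0_5 = true ∧ ruleBound spec.length cat1x0_5 = true :=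
  stepsOK_cat steps28_ok steps29_ok (by decide +kernel)

def cat1x0_6 : List (ℕ × ℕ) := steps30 ++ steps31

theorem cat1x0_6_ok : cert.stepsOK 7680 cat1x0_6 = true ∧ ruleBound spec.length cat1x0_6 = true :=
  stepsOK_cat steps30_ok steps31_ok (by decide +kernel)

def cat1x0_7 : List (ℕ × ℕ) := steps32 ++ steps33

theorem cat1x0_7_ok : cert.stepsOK 8192 cat1x0_7 = true ∧ ruleBound spec.length cat1x0_7 = true :=
  stepsOK_cat steps32_ok steps33_ok (by decide +kernel)

def cat1x0_8 : List (ℕ × ℕ) := steps34 ++ steps35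

theorem cat1x0_8_ok : cert.stepsOK 8704 cat1x0_8 = true ∧ ruleBound spec.length cat1x0_8 = true :=
  stepsOK_cat steps34_ok steps35_ok (by decide +kernel)

def cat1x1_0 : List (ℕ × ℕ) := cat1x0_0 ++ cat1x0_1

theorem cat1x1_0_ok : cert.stepsOK 4608 cat1x1_0 = true ∧ ruleBound spec.length cat1x1_0 = true :=
  stepsOK_cat cat1x0_0_ok cat1x0_1_ok (by decide +kernel)

def cat1x1_1 : List (ℕ × ℕ) := cat1x0_2 ++ cat1x0_3

theorem cat1x1_1_ok : cert.stepsOK 5632 cat1x1_1 = true ∧ ruleBound spec.length cat1x1_1 = true :=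
  stepsOK_cat cat1x0_2_ok cat1x0_3_ok (by decide +kernel)

def cat1x1_2 : List (ℕ × ℕ) := cat1x0_4 ++ cat1x0_5

theorem cat1x1_2_ok : cert.stepsOK 6656 cat1x1_2 = true ∧ ruleBound spec.length cat1x1_2 = true :=
  stepsOK_cat cat1x0_4_ok cat1x0_5_ok (by decide +kernel)

def cat1x1_3 : List (ℕ × ℕ) := cat1x0_6 ++ cat1x0_7

theorem cat1x1_3_ok : cert.stepsOK 7680 cat1x1_3 = true ∧ ruleBound spec.length cat1x1_3 = true :=
  stepsOK_cat cat1x0_6_ok cat1x0_7_ok (by decide +kernel)

def cat1x2_0 : List (ℕ × ℕ) := cat1x1_0 ++ cat1x1_1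

theorem cat1x2_0_ok : cert.stepsOK 4608 cat1x2_0 = true ∧ ruleBound spec.length cat1x2_0 = true :=
  stepsOK_cat cat1x1_0_ok cat1x1_1_ok (by decide +kernel)

def cat1x2_1 : List (ℕ × ℕ) := cat1x1_2 ++ cat1x1_3

theorem cat1x2_1_ok : cert.stepsOK 6656 cat1x2_1 = true ∧ ruleBound spec.length cat1x2_1 = true :=
  stepsOK_cat cat1x1_2_ok cat1x1_3_ok (by decide +kernel)

def cat1x3_0 : List (ℕ × ℕ) := cat1x2_0 ++ cat1x2_1

theorem cat1x3_0_ok : cert.stepsOK 4608 cat1x3_0 = true ∧ ruleBound spec.length cat1x3_0 = true :=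
  stepsOK_cat cat1x2_0_ok cat1x2_1_ok (by decide +kernel)

def cat1x4_0 : List (ℕ × ℕ) := cat1x3_0 ++ cat1x0_8

theorem cat1x4_0_ok : cert.stepsOK 4608 cat1x4_0 = true ∧ ruleBound spec.length cat1x4_0 = true :=
  stepsOK_cat cat1x3_0_ok cat1x0_8_ok (by decide +kernel)

end Cfsg.Lib.SpiderYFive.C6
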