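import Cfsg.Agent.SpiderYFive.C6Part0
import Cfsg.Agent.SpiderYFive.C6Part1
import Cfsg.Agent.SpiderYFive.C6Part2

/-!
The certificate is valid.
-/

set_option autoImplicit false

namespace Cfsg.Lib.SpiderYFive.C6

open Cfsg.Lib.CosetCert

def top0_0 : List (ℕ × ℕ) := cat0x4_0 ++ cat1x4_0

theorem top0_0_ok : cert.stepsOK 0 top0_0 = true ∧ ruleBound spec.length top0_0 = true :=
  stepsOK_cat cat0x4_0_ok cat1x4_0_ok (by decide +kernel)

def top1_0 : List (ℕ × ℕ) := top0_0 ++ cat2x4_0

theorem top1_0_ok : cert.stepsOK 0 top1_0 = true ∧ ruleBound spec.length top1_0 = true :=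
  stepsOK_cat top0_0_ok cat2x4_0_ok (by decide +kernel)

theorem spec_ok : cert.rotsOK rels spec = true := by decide +kernel

theorem tab_ok : cert.tabOK top1_0.length = true := by decide +kernel

theorem valid : cert.Valid rels :=
  ⟨by decide, spec, top1_0, spec_ok, top1_0_ok.1, top1_0_ok.2, tab_ok⟩

theorem fins_length : cert.fin.length = 1080 := by rw [Cert.fin, List.length_map, List.length_range]; rfl

end Cfsg.Lib.SpiderYFive.C6
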