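import Cfsg.Agent.SpiderYFive.Sys
import Cfsg.Agent.SpiderYFive.C0Check
import Cfsg.Agent.FiPres.OrthImage
import Cfsg.Agent.S0295

/-!
The element given by the ninth power of the Coxeter word of a subgraph of type E₇ is central in the subgroup on nine
letters with arms of lengths three, three and two.
-/

set_option autoImplicit false

set_option maxRecDepth 8000

namespace Cfsg.Lib.SpiderYFive

open Cfsg.Lib.CosetCert
open Cfsg.Lib.FiPres (rpt wval_rpt words8 P8 im8 lift8 words8_cases)

variable {G : Type*} [Group G]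

/-- The ninth power of the Coxeter word. -/
def zval (y : ℕ → G) : G := wval y (rpt 9 zB)

/-- The local word of a word in the expansions. -/
def pullBack (E : List (List ℕ)) (v : List ℕ) : List ℕ := v.map fun l => E.idxOf [l]

theorem z_checks :
    triv zz_mv (rpt 9 zB ++ rpt 9 zB) = true ∧
    triv z_a_mv (rpt 9 zB ++ 0 :: ((rpt 9 zB).reverse ++ [0])) = true ∧
    triv z_b_mv (rpt 9 zB ++ 1 :: ((rpt 9 zB).reverse ++ [1])) = true ∧
    triv z_c_mv (rpt 9 zB ++ 2 :: ((rpt 9 zB).reverse ++ [2])) = true ∧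
    triv z_d_mv (rpt 9 zB ++ 3 :: ((rpt 9 zB).reverse ++ [3])) = true ∧
    triv z_g_mv (rpt 9 zB ++ 6 :: ((rpt 9 zB).reverse ++ [6])) = true ∧
    triv z_h_mv (rpt 9 zB ++ 7 :: ((rpt 9 zB).reverse ++ [7])) = true ∧
    triv z_i_mv (rpt 9 zB ++ 11 :: ((rpt 9 zB).reverse ++ [11])) = true ∧
    triv zF_mv (rpt 9 zB ++ (rpt 9 zfB).reverse) = true ∧
    triv zpF_mv (rpt 9 zpB ++ (rpt 9 zpfB).reverse) = true ∧
    triv ujJ_mv (wUJ ++ 12 :: (wUJ.reverse ++ [12])) = true ∧
    triv z2K_mv (rpt 9 z2B ++ 8 :: ((rpt 9 z2B).reverse ++ [8])) = true ∧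
    low (rpt 9 zB) = true ∧ low (rpt 9 zfB) = true ∧ low (rpt 9 zpfB) = true ∧ low (rpt 9 z2B) = true ∧
    low wUJ = true ∧ (rpt 9 zB).length = 63 := by
  decide +kernel

theorem zval_sq {y : ℕ → G} (h : Cox y) : zval y * zval y = 1 := by
  have := triv_sound h z_checks.1
  rwa [wval_app] at this

theorem zval_comm_easy {y : ℕ → G} (h : Cox y) : ∀ l ∈ [0, 1, 2, 3, 6, 7, 11], Commute (zval y) (y l) := by
  obtain ⟨-, ca, cb, cc, cd, cg, ch, ci, -, -, -, -, hz, -⟩ := z_checks
  intro l hl
  fin_cases hl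
  exacts [h.comm_of_triv hz (by norm_num) ca, h.comm_of_triv hz (by norm_num) cb, h.comm_of_triv hz (by norm_num) cc,
    h.comm_of_triv hz (by norm_num) cd, h.comm_of_triv hz (by norm_num) cg, h.comm_of_triv hz (by norm_num) ch,
    h.comm_of_triv hz (by norm_num) ci]

theorem c0_ok : C0.cert.ng ≤ 15 ∧ relsCheck C0.cert.ng C0.rels C0Exp C0Moves [rpt 10 spiderB] = true ∧
    ((C0.cert.walk C0.allSteps.length C0.trace 0 0 == some (0, wcode (pullBack C0Exp (rpt 9 zB)))) &&
      (pullBack C0Exp (rpt 9 zB)).all (fun l => decide (l < 15)) &&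
      (expand C0Exp (pullBack C0Exp (rpt 9 zB)) == rpt 9 zB)) = true ∧
    C0.cert.subs.map (fun s => C0Exp.getD s []) = [[0], [1], [2], [3], [6], [7], [12], wUJ] := by
  decide +kernel

theorem zval_comm_j {y : ℕ → G} (h : Sys y) : Commute (zval y) (y 12) := by
  obtain ⟨hng, hrel, hwalk, hsubs⟩ := c0_ok
  have hm := cert_mem h.cox C0.cert hng C0.spec_ok C0.allSteps_ok (by simpa using h.spider) hrel
    (K := Subgroup.centralizer {y 12}) (fun s hs => ?_) hwalk
  · exact Commute.symm (Subgroup.mem_centralizer_singleton_iff.1 hm).symm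
  · have := List.mem_map_of_mem (f := fun s => C0Exp.getD s []) hs
    rw [hsubs] at this
    rw [Subgroup.mem_centralizer_singleton_iff]
    refine (show Commute (wval y (C0Exp.getD s [])) (y 12) from ?_).eq
    generalize C0Exp.getD s [] = w at this ⊢
    obtain ⟨-, -, -, -, -, -, -, -, -, -, cu, -, -, -, -, -, hu, -⟩ := z_checks
    fin_cases this
    rotate_left 6
    · simp [wval]
    · exact h.cox.comm_of_triv hu (by norm_num) cu
    all_goals
      simp only [wval, List.map_cons, List.map_nil, List.prod_cons, List.prod_nil, mul_one]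
      exact h.cox.com _ (by norm_num) _ (by norm_num) (by norm_num) (by decide)

/-- A hom from a simple noncommutative group sends nothing to a nontrivial central element of its image. -/
theorem central_image_eq_one {S Q : Type*} [Group S] [IsSimpleGroup S] (hS : ∃ a b : S, a * b ≠ b * a) [Group Q]
    (θ : S →* Q) (x : S) (hx : ∀ s, Commute (θ s) (θ x)) : θ x = 1 := by
  rcases θ.normal_ker.eq_bot_or_eq_top with hk | hk
  · have hi : Function.Injective θ := (MonoidHom.ker_eq_bot_iff θ).1 hk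
    have hc : x ∈ Subgroup.center S := Subgroup.mem_center_iff.2 fun s => hi (by
      rw [map_mul, map_mul]; exact (hx s).eq)
    rcases Subgroup.Normal.eq_bot_or_eq_top (inferInstance : (Subgroup.center S).Normal) with hb | ht
    · rw [hb, Subgroup.mem_bot] at hc
      rw [hc, map_one]
    · obtain ⟨a, b, hab⟩ := hS
      exact absurd (Subgroup.mem_center_iff.1 (ht ▸ Subgroup.mem_top b) a) hab
  · exact MonoidHom.mem_ker.1 (hk ▸ Subgroup.mem_top x)

/-- A finite simple group of composite order is not commutative. -/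
theorem noncomm_of_simple {S : Type*} [Group S] [IsSimpleGroup S] [Finite S] (h : ¬ (Nat.card S).Prime) :
    ∃ a b : S, a * b ≠ b * a := by
  by_contra hc
  push Not at hc
  letI : CommGroup S := { (inferInstance : Group S) with mul_comm := hc }
  exact h (IsSimpleGroup.prime_card (α := S))

instance simple_P8 : IsSimpleGroup P8 := by
  obtain ⟨e⟩ := Cfsg.Lib.FiPres.iso_k
  haveI := Cfsg.Agent.S0295.result (F := ZMod 3) (by rw [ZMod.card]; decide) 3 le_rfl
  let e' := (MulEquiv.ofBijective Cfsg.Lib.FiPres.toK Cfsg.Lib.FiPres.toK_bijective).trans e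
  haveI : Nontrivial P8 := e'.toEquiv.nontrivial
  exact IsSimpleGroup.isSimpleGroup_of_surjective e'.symm.toMonoidHom e'.symm.surjective

theorem noncomm_P8 : ∃ a b : P8, a * b ≠ b * a := by
  haveI := Cfsg.Lib.FiPres.finite_P8.1
  refine noncomm_of_simple ?_
  rw [Nat.card_eq_of_bijective _ Cfsg.Lib.FiPres.toK_bijective, Cfsg.Lib.FiPres.card_k]
  norm_num

/-- The words of a pair reduce with one of three lists of moves. -/
def pairOK (known : List (List ℕ)) (v : List ℕ) : Bool :=
  triv [] v || known.contains v || triv [0] v || triv [4, 0, 0] v || triv [2, 6, 3, 0] v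

theorem pairOK_sound {y : ℕ → G} (h : Cox y) {known : List (List ℕ)} {v : List ℕ} (hk : v ∈ known → wval y v = 1)
    (hv : pairOK known v = true) : wval y v = 1 := by
  simp only [pairOK, Bool.or_eq_true, List.contains_iff_mem] at hv
  rcases hv with (((hv | hv) | hv) | hv) | hv
  exacts [triv_sound h hv, hk hv, triv_sound h hv, triv_sound h hv, triv_sound h hv]

/-- The letters replacing those of the orthogonal group. -/
def m8 : List ℕ := [16, 7, 6, 0, 1, 2, 3, 11, 12]
/-- The swap of the first two arms. -/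
def swap12 : List ℕ := armPerms.getD 2 []
/-- The swap of the last two arms. -/
def swap23 : List ℕ := armPerms.getD 1 []

theorem swaps_ok : (List.zip armPerms spiderMoves).contains (swap12, spiderMoves.getD 2 (false, [], [])) = true ∧
    (List.zip armPerms spiderMoves).contains (swap23, spiderMoves.getD 1 (false, [], [])) = true ∧
    (rpt 9 zB).map (fun n => swap23.getD n 0) = rpt 9 z2B ∧ (rpt 9 zB).map (fun n => swap12.getD n 0) = rpt 9 zpB ∧
    ([0, 1, 2, 3, 6, 7, 11, 12].all fun l => [0, 1, 2, 3, 6, 7, 11, 12].contains l) = true ∧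
    (words8.all fun w => (w == [0]) || pairOK [(rpt 10 spiderB).map (fun n => swap12.getD n 0), rpt 9 zfB]
      (w.map fun l => m8.getD l 0)) = true ∧
    (rpt 9 z2B).map (fun l => m8.getD (m8.idxOf l) 0) = rpt 9 z2B ∧
    ((rpt 9 z2B).all fun l => decide (m8.idxOf l < 9 ∧ m8.idxOf l ≠ 0)) = true ∧ (rpt 9 z2B).length = 63 := by
  decide +kernel

theorem Sys.swap23_sys {y : ℕ → G} (h : Sys y) : Sys (fun n => y (swap23.getD n 0)) :=
  h.permute (List.contains_iff_mem.1 swaps_ok.2.1)

theorem Sys.swap12_sys {y : ℕ → G} (h : Sys y) : Sys (fun n => y (swap12.getD n 0)) :=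
  h.permute (List.contains_iff_mem.1 swaps_ok.1)

/-- The letters of the subgroup on eight letters. -/
def L8 : List ℕ := [0, 1, 2, 3, 6, 7, 11, 12]

theorem zval_comm_L8 {y : ℕ → G} (h : Sys y) : ∀ l ∈ L8, Commute (zval y) (y l) := by
  intro l hl
  by_cases hj : l = 12
  · exact hj ▸ zval_comm_j h
  · refine zval_comm_easy h.cox l ?_
    simp only [L8, List.mem_cons, List.mem_nil_iff, or_false] at hl ⊢
    omega

theorem z2_comm_L8 {y : ℕ → G} (h : Sys y) : ∀ l ∈ L8, Commute (wval y (rpt 9 z2B)) (y l) := by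
  intro l hl
  have h2 := zval_comm_L8 h.swap23_sys (swap23.getD l 0)
    ((show ∀ l ∈ L8, swap23.getD l 0 ∈ L8 by decide) l hl)
  rw [zval, wval_comp, swaps_ok.2.2.1] at h2
  rwa [(show ∀ l ∈ L8, swap23.getD (swap23.getD l 0) 0 = l by decide) l hl] at h2

/-- Commuting with the generators. -/
theorem comm_lgp {y : ℕ → G} {x : G} {S : List ℕ} (hx : ∀ l ∈ S, Commute x (y l)) {g : G} (hg : g ∈ lgp y S) :
    Commute x g := by
  have : lgp y S ≤ Subgroup.centralizer {x} := by
    refine (Subgroup.closure_le _).2 ?_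
    rintro _ ⟨l, hl, rfl⟩
    rw [SetLike.mem_coe, Subgroup.mem_centralizer_singleton_iff]
    exact (hx l hl).eq.symm
  exact (Subgroup.mem_centralizer_singleton_iff.1 (this hg)).symm

theorem zval_eq_z2 {y : ℕ → G} (h : Sys y) : zval y = wval y (rpt 9 z2B) := by
  set Y := lgp y L8
  obtain ⟨-, -, -, -, -, -, -, -, cF, -, -, -, hzl, hzf, -, hz2, -, hlen⟩ := z_checks
  obtain ⟨-, -, -, -, -, hwords, hpull, hidx, hlen2⟩ := swaps_ok
  have hz : zval y ∈ Y := lgp_wval y (show inLetters L8 (rpt 9 zB) = true by decide)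
  have hy : wval y (rpt 9 z2B) ∈ Y := lgp_wval y (show inLetters L8 (rpt 9 z2B) = true by decide)
  let z' : Y := ⟨zval y, hz⟩
  haveI hN : (Subgroup.zpowers z').Normal := by
    refine ⟨fun n hn g => ?_⟩
    obtain ⟨k, rfl⟩ := Subgroup.mem_zpowers_iff.1 hn
    have hc : Commute z' g := Subtype.ext (comm_lgp (zval_comm_L8 h) g.2).eq
    rw [← (hc.zpow_left k).eq, mul_inv_cancel_right]
    exact hn
  let q := QuotientGroup.mk' (Subgroup.zpowers z')
  let gen : ℕ → Y := fun l => if hl : m8.getD l 0 ∈ L8 then ⟨y (m8.getD l 0), lgp_mem y hl⟩ else 1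
  have hgen : ∀ w : List ℕ, (∀ l ∈ w, m8.getD l 0 ∈ L8) →
      ((wval gen w : Y) : G) = wval y (w.map fun l => m8.getD l 0) := by
    intro w hw
    rw [wval, SubmonoidClass.coe_list_prod, List.map_map, wval, List.map_map]
    refine congrArg List.prod (List.map_congr_left fun l hl => ?_)
    simp only [Function.comp_apply, gen, dif_pos (hw l hl)]
  have hspider : wval y ((rpt 10 spiderB).map fun n => swap12.getD n 0) = 1 := by
    rw [← wval_comp]
    exact h.swap12_sys.spider
  have hzfe : zval y = wval y (rpt 9 zfB) := h.cox.eq_of_triv hzf cF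
  have hL : ∀ l, l < 9 → l ≠ 0 → m8.getD l 0 ∈ L8 := by decide
  have hf : ∀ w ∈ words8, wval (fun l => q (gen l)) w = 1 := by
    intro w hw
    rw [← map_wval]
    rcases words8_cases hw with rfl | ⟨-, hl⟩
    · rw [show wval gen [0] = 1 by simp [wval, gen, m8, L8], map_one]
    have hne : w ≠ [0] := fun e => (hl 0 (by simp [e])).1 rfl
    have hok := List.all_eq_true.1 hwords w hw
    rw [Bool.or_eq_true, beq_iff_eq] at hok
    replace hok := hok.resolve_left hne
    have hlL : ∀ l ∈ w, m8.getD l 0 ∈ L8 := fun l hl' => hL l (hl l hl').2 (hl l hl').1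
    by_cases hzw : w.map (fun l => m8.getD l 0) = rpt 9 zfB
    · have e : wval gen w = z' := Subtype.ext (by rw [hgen w hlL, hzw, ← hzfe])
      rw [e]
      exact (QuotientGroup.eq_one_iff _).2 (Subgroup.mem_zpowers _)
    · have e : wval gen w = 1 := Subtype.ext (by
        rw [hgen w hlL]
        refine pairOK_sound h.cox (fun hv => ?_) hok
        rcases List.mem_cons.1 hv with hv | hv
        · rw [hv]; exact hspider
        · exact absurd (List.mem_singleton.1 hv) hzw)
      rw [e, map_one]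
  let θ : P8 →* Y ⧸ Subgroup.zpowers z' := PresentedGroup.toGroup (lift8 (fun l => q (gen l)) hf)
  have hθ : ∀ w : List ℕ, (∀ l ∈ w, l < 9) → θ (wval im8 w) = q (wval gen w) := by
    intro w hw
    rw [map_wval, map_wval gen q]
    refine congrArg List.prod (List.map_congr_left fun l hl => ?_)
    exact (PresentedGroup.toGroup.of _).trans (by simp [Nat.mod_eq_of_lt (hw l hl)])
  have hidx' : ∀ l ∈ rpt 9 z2B, m8.idxOf l < 9 ∧ m8.idxOf l ≠ 0 := fun l hl =>
    decide_eq_true_eq.mp (List.all_eq_true.1 hidx l hl)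
  set v := (rpt 9 z2B).map fun l => m8.idxOf l with hv
  have hv9 : ∀ l ∈ v, l < 9 ∧ l ≠ 0 := by
    intro l hl
    obtain ⟨a, ha, rfl⟩ := List.mem_map.1 hl
    exact hidx' a ha
  have hgv : wval gen v = ⟨wval y (rpt 9 z2B), hy⟩ := Subtype.ext (by
    rw [hgen v fun l hl => hL l (hv9 l hl).1 (hv9 l hl).2]
    show wval y (v.map _) = wval y (rpt 9 z2B)
    rw [hv, List.map_map, show ((fun l => m8.getD l 0) ∘ fun l => m8.idxOf l) = fun l => m8.getD (m8.idxOf l) 0 from rfl,
      hpull])
  have hone := central_image_eq_one noncomm_P8 θ (wval im8 v) (fun s => by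
    rw [hθ v fun l hl => (hv9 l hl).1, hgv]
    obtain ⟨g, hg⟩ := QuotientGroup.mk'_surjective (Subgroup.zpowers z') (θ s)
    rw [← hg]
    refine Commute.map (Subtype.ext ?_) q
    exact (comm_lgp (z2_comm_L8 h) g.2).eq.symm)
  rw [hθ v fun l hl => (hv9 l hl).1, hgv] at hone
  obtain ⟨k, hk⟩ := Subgroup.mem_zpowers_iff.1 ((QuotientGroup.eq_one_iff _).1 hone)
  have hk' : zval y ^ k = wval y (rpt 9 z2B) := congrArg Subtype.val hk
  obtain ⟨s, hs⟩ := h.sgn_word
  have h2 : zval y ^ (2 : ℤ) = 1 := by rw [zpow_two, zval_sq h.cox]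
  rcases Int.even_or_odd' k with ⟨m, rfl | rfl⟩
  · rw [zpow_mul, h2, one_zpow] at hk'
    have := congrArg s hk'.symm
    rw [hs _ hz2, hlen2, map_one] at this
    exact absurd this (by decide)
  · rwa [zpow_add_one, zpow_mul, h2, one_zpow, one_mul] at hk'

/-- The letters of the subgroup with arms three, three, two. -/
def L9 : List ℕ := [0, 1, 2, 3, 6, 7, 8, 11, 12]

theorem zval_comm_L9 {y : ℕ → G} (h : Sys y) : ∀ l ∈ L9, Commute (zval y) (y l) := by
  intro l hl
  by_cases hk : l = 8
  · obtain ⟨-, -, -, -, -, -, -, -, -, -, -, ck, -, -, -, hz2, -⟩ := z_checks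
    rw [zval_eq_z2 h, hk]
    exact h.cox.comm_of_triv hz2 (by norm_num) ck
  · refine zval_comm_L8 h l ?_
    simp only [L8, L9, List.mem_cons, List.mem_nil_iff, or_false] at hl ⊢
    omega

theorem zp_comm_L9 {y : ℕ → G} (h : Sys y) : ∀ l ∈ L9, Commute (wval y (rpt 9 zpB)) (y l) := by
  intro l hl
  have h2 := zval_comm_L9 h.swap12_sys (swap12.getD l 0)
    ((show ∀ l ∈ L9, swap12.getD l 0 ∈ L9 by decide) l hl)
  rw [zval, wval_comp, swaps_ok.2.2.2.1] at h2
  rwa [(show ∀ l ∈ L9, swap12.getD (swap12.getD l 0) 0 = l by decide) l hl] at h2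

end Cfsg.Lib.SpiderYFive
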