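import Cfsg.Agent.SpiderYFive.Centre
import Cfsg.Agent.SpiderYFive.C1Check
import Cfsg.Agent.SpiderYFive.C4Check
import Cfsg.Agent.FiPres.Simple

/-!
The reflection in the highest root of a subgraph of type E₈ equals the ninth power of the Coxeter word of a subgraph of
type E₇.
-/

set_option autoImplicit false

set_option maxRecDepth 8000

namespace Cfsg.Lib.SpiderYFive

open Cfsg.Lib.CosetCert
open Cfsg.Lib.FiPres (rpt wval_rpt toGrp toGrp_im)

variable {G : Type*} [Group G]

/-- The conjugate of the letter seven entering the certificates. -/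
def hWord : List ℕ := wW ++ 7 :: wW.reverse

theorem rho_checks :
    triv rho_a_mv (rho ++ 0 :: (rho.reverse ++ [0])) = true ∧ triv rho_b_mv (rho ++ 1 :: (rho.reverse ++ [1])) = true ∧
    triv rho_c_mv (rho ++ 2 :: (rho.reverse ++ [2])) = true ∧ triv rho_d_mv (rho ++ 3 :: (rho.reverse ++ [3])) = true ∧
    triv rho_g_mv (rho ++ 6 :: (rho.reverse ++ [6])) = true ∧
    triv rho_i_mv (rho ++ 11 :: (rho.reverse ++ [11])) = true ∧
    triv rho_j_mv (rho ++ 12 :: (rho.reverse ++ [12])) = true ∧
    triv wK_mv (wW ++ 8 :: (wW.reverse ++ [8])) = true ∧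
    triv uE_mv (wU ++ 4 :: (wU.reverse ++ [4])) = true ∧
    triv eRho_mv (([4] ++ rho ++ [4]) ++ ((rho ++ [4] ++ rho).reverse)) = true ∧
    triv zpE_mv (rpt 9 zpB ++ 4 :: ((rpt 9 zpB).reverse ++ [4])) = true ∧
    rho = wW.reverse ++ 4 :: wW ∧ low wW = true ∧ low rho = true ∧ low wU = true ∧ low (rpt 9 zpB) = true ∧
    low (rho ++ [4] ++ rho) = true ∧ low hWord = true ∧ rho.length = 57 ∧ (rpt 9 zpB).length = 63 := by
  decide +kernel

theorem conj_checks :
    triv conj_a_mv ((wW.reverse ++ [0] ++ wW) ++ img_a.reverse) = true ∧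
    triv conj_b_mv ((wW.reverse ++ [1] ++ wW) ++ img_b.reverse) = true ∧
    triv conj_c_mv ((wW.reverse ++ [2] ++ wW) ++ img_c.reverse) = true ∧
    triv conj_g_mv ((wW.reverse ++ [6] ++ wW) ++ img_g.reverse) = true ∧
    triv conj_i_mv ((wW.reverse ++ [11] ++ wW) ++ img_i.reverse) = true ∧
    triv conj_j_mv ((wW.reverse ++ [12] ++ wW) ++ img_j.reverse) = true ∧
    triv conj_u_mv ((wW.reverse ++ wU ++ wW) ++ img_u.reverse) = true ∧
    ([img_a, img_b, img_c, img_g, img_i, img_j, img_u].all fun w => low w && inLetters L9 w) = true := by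
  decide +kernel

theorem c1_ok : C1.cert.ng ≤ 15 ∧ relsCheck C1.cert.ng C1.rels C1Exp C1Moves [rpt 10 spiderB] = true ∧
    ((C1.cert.walk C1.allSteps.length C1.trace 0 0 == some (0, wcode (pullBack C1Exp hWord))) &&
      (pullBack C1Exp hWord).all (fun l => decide (l < 15)) &&
      (expand C1Exp (pullBack C1Exp hWord) == hWord)) = true ∧
    C1.cert.subs.map (fun s => C1Exp.getD s []) = [[0], [1], [2], [6], [11], [12], [4], [7], wU] := by
  decide +kernel

theorem c4_ok : C4.cert.ng ≤ 15 ∧ relsCheck C4.cert.ng C4.rels C4Exp C4Moves [rpt 10 spiderB] = true ∧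
    ((C4.cert.walk C4.allSteps.length C4.trace 0 0 == some (0, wcode (pullBack C4Exp [4]))) &&
      (pullBack C4Exp [4]).all (fun l => decide (l < 15)) &&
      (expand C4Exp (pullBack C4Exp [4]) == [4])) = true ∧
    C4.cert.subs.map (fun s => C4Exp.getD s []) = [[0], [1], [2], [6], [11], [12], wU, hWord, [8]] := by
  decide +kernel

theorem wval_single (y : ℕ → G) (a : ℕ) : wval y [a] = y a := by simp [wval]

theorem rho_eq {y : ℕ → G} (h : Cox y) :
    wval y rho = (wval y wW)⁻¹ * y 4 * wval y wW := by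
  obtain ⟨-, -, -, -, -, -, -, -, -, -, -, hrho, hW, -⟩ := rho_checks
  rw [hrho, wval_app, wval_cons', h.inv hW, mul_assoc]

theorem rho_comm_h {y : ℕ → G} (h : Sys y) : Commute (wval y rho) (y 7) := by
  obtain ⟨hng, hrel, hwalk, hsubs⟩ := c1_ok
  obtain ⟨-, -, -, -, -, -, -, -, ue, -, -, -, hW, -, hU, -⟩ := rho_checks
  have hm := cert_mem h.cox C1.cert hng C1.spec_ok C1.allSteps_ok (by simpa using h.spider) hrel
    (K := Subgroup.centralizer {y 4}) (fun s hs => ?_) hwalk
  · have e : Commute (wval y hWord) (y 4) := (Subgroup.mem_centralizer_singleton_iff.1 hm)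
    have := e.map (MulAut.conj (wval y wW)⁻¹).toMonoidHom
    simp only [MulEquiv.coe_toMonoidHom, MulAut.conj_apply, inv_inv, hWord, wval_app, wval_cons', h.cox.inv hW] at this
    rw [← mul_assoc (wval y wW)⁻¹ (wval y wW), inv_mul_cancel, one_mul, mul_assoc (y 7), inv_mul_cancel, mul_one] at this
    rw [rho_eq h.cox]
    exact this.symm
  · have := List.mem_map_of_mem (f := fun s => C1Exp.getD s []) hs
    rw [hsubs] at this
    rw [Subgroup.mem_centralizer_singleton_iff]
    refine (show Commute (wval y (C1Exp.getD s [])) (y 4) from ?_).eq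
    generalize C1Exp.getD s [] = w at this ⊢
    fin_cases this
    rotate_left 6
    · rw [wval_single]
    · rw [wval_single]
      exact h.cox.com _ (by norm_num) _ (by norm_num) (by norm_num) (by decide)
    · exact h.cox.comm_of_triv hU (by norm_num) ue
    all_goals
      rw [wval_single]
      exact h.cox.com _ (by norm_num) _ (by norm_num) (by norm_num) (by decide)

theorem rho_comm_L9 {y : ℕ → G} (h : Sys y) : ∀ l ∈ L9, Commute (wval y rho) (y l) := by
  obtain ⟨ca, cb, cc, cd, cg, ci, cj, ck, -, -, -, -, hW, hr, -⟩ := rho_checks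
  intro l hl
  fin_cases hl
  exacts [h.cox.comm_of_triv hr (by norm_num) ca, h.cox.comm_of_triv hr (by norm_num) cb,
    h.cox.comm_of_triv hr (by norm_num) cc, h.cox.comm_of_triv hr (by norm_num) cd,
    h.cox.comm_of_triv hr (by norm_num) cg, rho_comm_h h,
    by
      rw [rho_eq h.cox]
      have hw := h.cox.comm_of_triv hW (by norm_num) ck
      exact ((hw.inv_left.mul_left (h.cox.com 4 (by norm_num) 8 (by norm_num) (by norm_num) (by decide))).mul_left hw),
    h.cox.comm_of_triv hr (by norm_num) ci, h.cox.comm_of_triv hr (by norm_num) cj]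

theorem rho_mem {y : ℕ → G} (h : Sys y) : wval y rho ∈ lgp y L9 := by
  obtain ⟨hng, hrel, hwalk, hsubs⟩ := c4_ok
  obtain ⟨-, -, -, -, -, -, -, ck, -, -, -, -, hW, -⟩ := rho_checks
  obtain ⟨ea, eb, ec, eg, ei, ej, eu, himg⟩ := conj_checks
  simp only [List.all_cons, List.all_nil, Bool.and_true, Bool.and_eq_true] at himg
  have hm := cert_mem h.cox C4.cert hng C4.spec_ok C4.allSteps_ok (by simpa using h.spider) hrel
    (K := (lgp y L9).comap (MulAut.conj (wval y wW)⁻¹).toMonoidHom) (fun s hs => ?_) hwalk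
  · rw [Subgroup.mem_comap, MulEquiv.coe_toMonoidHom, MulAut.conj_apply, inv_inv, wval_single] at hm
    rwa [rho_eq h.cox]
  · have := List.mem_map_of_mem (f := fun s => C4Exp.getD s []) hs
    rw [hsubs] at this
    rw [Subgroup.mem_comap, MulEquiv.coe_toMonoidHom, MulAut.conj_apply, inv_inv]
    generalize C4Exp.getD s [] = w at this ⊢
    have key : ∀ {ms img : List ℕ}, triv ms ((wW.reverse ++ w ++ wW) ++ img.reverse) = true →
        low img = true ∧ inLetters L9 img = true → (wval y wW)⁻¹ * wval y w * wval y wW ∈ lgp y L9 := by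
      intro ms img ht hi
      have e := h.cox.eq_of_triv hi.1 ht
      rw [wval_app, wval_app, h.cox.inv hW] at e
      exact e ▸ lgp_wval y hi.2
    fin_cases this
    exacts [key ea himg.1, key eb himg.2.1, key ec himg.2.2.1, key eg himg.2.2.2.1, key ei himg.2.2.2.2.1,
      key ej himg.2.2.2.2.2.1, key eu himg.2.2.2.2.2.2,
      by
        rw [hWord, wval_app, wval_cons', h.cox.inv hW]
        simpa [mul_assoc] using lgp_mem y (show 7 ∈ L9 by decide),
      by
        rw [wval_single, mul_assoc, ← (h.cox.comm_of_triv hW (by norm_num) ck).eq, inv_mul_cancel_left]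
        exact lgp_mem y (show 8 ∈ L9 by decide)]

/-- The letters replacing those of the Fischer group. -/
def m9 : List ℕ := [8, 7, 6, 0, 1, 2, 3, 11, 12]

theorem m9_ok : (Cfsg.Lib.FiPres.allWords.all fun w => pairOK
      [(rpt 10 spiderB).map (fun n => swap12.getD n 0), rpt 9 zfB, rpt 9 zpfB] (w.map fun l => m9.getD l 0)) = true ∧
    (Cfsg.Lib.FiPres.allWords.all fun w => w.all fun l => decide (l < 9)) = true := by
  decide +kernel

theorem noncomm_fi : ∃ a b : Cfsg.Spor.Fi22, a * b ≠ b * a := by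
  haveI := Cfsg.Lib.FiPres.simple_fi
  refine noncomm_of_simple ?_
  rw [Cfsg.Lib.FiPres.factG.1]
  norm_num

theorem rho_cases {y : ℕ → G} (h : Sys y) : wval y rho = zval y ∨ wval y rho = wval y (rpt 9 zpB) := by
  haveI := Cfsg.Lib.FiPres.simple_fi
  set H := lgp y L9
  obtain ⟨-, -, -, -, -, -, -, -, cF, cPF, -, -, hzl, hzf, hzpf, -, -, hlen⟩ := z_checks
  obtain ⟨-, -, -, -, -, -, -, -, -, -, -, -, -, hr, -, hzp, -, -, hlenr, hlenp⟩ := rho_checks
  have hz : zval y ∈ H := lgp_wval y (show inLetters L9 (rpt 9 zB) = true by decide)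
  have hp : wval y (rpt 9 zpB) ∈ H := lgp_wval y (show inLetters L9 (rpt 9 zpB) = true by decide)
  have hzp2 : wval y (rpt 9 zpB) * wval y (rpt 9 zpB) = 1 := by
    rw [← swaps_ok.2.2.2.1, ← wval_comp]
    exact zval_sq h.swap12_sys.cox
  let Z : H := ⟨zval y, hz⟩
  let P : H := ⟨wval y (rpt 9 zpB), hp⟩
  let N : Subgroup H := Subgroup.closure {Z, P}
  have hcen : N ≤ Subgroup.center H := by
    refine (Subgroup.closure_le _).2 ?_
    rintro x (rfl | rfl) <;> rw [SetLike.mem_coe, Subgroup.mem_center_iff] <;> intro g <;> refine Subtype.ext ?_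
    exacts [(comm_lgp (zval_comm_L9 h) g.2).eq.symm, (comm_lgp (zp_comm_L9 h) g.2).eq.symm]
  haveI hN : N.Normal := ⟨fun n hn g => by
    rw [Subgroup.mem_center_iff.1 (hcen hn) g, mul_inv_cancel_right]
    exact hn⟩
  let q := QuotientGroup.mk' N
  let gen : ℕ → H := fun l => if hl : m9.getD l 0 ∈ L9 then ⟨y (m9.getD l 0), lgp_mem y hl⟩ else 1
  have hL : ∀ l, l < 9 → m9.getD l 0 ∈ L9 := by decide
  have hgen : ∀ w : List ℕ, (∀ l ∈ w, l < 9) →
      ((wval gen w : H) : G) = wval y (w.map fun l => m9.getD l 0) := by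
    intro w hw
    rw [wval, SubmonoidClass.coe_list_prod, List.map_map, wval, List.map_map]
    refine congrArg List.prod (List.map_congr_left fun l hl => ?_)
    simp only [Function.comp_apply, gen, dif_pos (hL l (hw l hl))]
  have hgood : Cfsg.Lib.FiPres.Good (fun l => q (gen l)) := by
    intro w hw
    rw [← map_wval]
    have hl9 : ∀ l ∈ w, l < 9 := fun l hl =>
      decide_eq_true_eq.mp (List.all_eq_true.1 (List.all_eq_true.1 m9_ok.2 w hw) l hl)
    have hok := List.all_eq_true.1 m9_ok.1 w hw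
    by_cases h1 : w.map (fun l => m9.getD l 0) = rpt 9 zfB
    · have e : wval gen w = Z := Subtype.ext (by rw [hgen w hl9, h1, ← h.cox.eq_of_triv hzf cF]; rfl)
      rw [e]
      exact (QuotientGroup.eq_one_iff _).2 (Subgroup.subset_closure (by simp))
    by_cases h2 : w.map (fun l => m9.getD l 0) = rpt 9 zpfB
    · have e : wval gen w = P := Subtype.ext (by rw [hgen w hl9, h2, ← h.cox.eq_of_triv hzpf cPF])
      rw [e]
      exact (QuotientGroup.eq_one_iff _).2 (Subgroup.subset_closure (by simp))
    have e : wval gen w = 1 := Subtype.ext (by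
      rw [hgen w hl9]
      refine pairOK_sound h.cox (fun hv => ?_) hok
      rcases List.mem_cons.1 hv with hv | hv
      · rw [hv, ← wval_comp]
        exact h.swap12_sys.spider
      rcases List.mem_cons.1 hv with hv | hv
      · exact absurd hv h1
      · exact absurd (List.mem_singleton.1 hv) h2)
    rw [e, map_one]
  let θ := toGrp hgood
  have hsurj : ∀ x : H, q x ∈ θ.range := by
    have key : H ≤ (θ.range.comap q).map H.subtype := by
      refine (Subgroup.closure_le _).2 ?_
      rintro _ ⟨l, hl, rfl⟩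
      obtain ⟨k, hk, rfl⟩ := (show ∀ l ∈ L9, ∃ k < 9, m9.getD k 0 = l by decide) l hl
      refine ⟨gen k, ⟨Cfsg.Lib.FiPres.im k, toGrp_im hgood hk⟩, ?_⟩
      simp only [gen, dif_pos (hL k hk), Subgroup.coe_subtype]
    intro x
    obtain ⟨x', hx', e⟩ := key x.2
    exact Subtype.ext e ▸ hx'
  let R : H := ⟨wval y rho, rho_mem h⟩
  obtain ⟨a, ha⟩ := hsurj R
  have hone : q R = 1 := by
    rw [← ha]
    refine central_image_eq_one noncomm_fi θ a fun s => ?_
    rw [ha]
    obtain ⟨g, hg⟩ := QuotientGroup.mk'_surjective N (θ s)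
    rw [← hg]
    exact Commute.map (Subtype.ext (comm_lgp (rho_comm_L9 h) g.2).eq.symm) q
  have hmem : ∀ x ∈ N, (x : G) = 1 ∨ (x : G) = zval y ∨ (x : G) = wval y (rpt 9 zpB) ∨
      (x : G) = zval y * wval y (rpt 9 zpB) := by
    have hcomm : wval y (rpt 9 zpB) * zval y = zval y * wval y (rpt 9 zpB) := (comm_lgp (zp_comm_L9 h) hz).eq
    have zz := zval_sq h.cox
    intro x hx
    induction hx using Subgroup.closure_induction with
    | mem x hx => rcases hx with rfl | rfl <;> simp [Z, P]
    | one => simp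
    | mul a b _ _ iha ihb =>
      rw [Subgroup.coe_mul]
      have zz' : ∀ t, zval y * (zval y * t) = t := fun t => by rw [← mul_assoc, zz, one_mul]
      have pp' : ∀ t, wval y (rpt 9 zpB) * (wval y (rpt 9 zpB) * t) = t := fun t => by rw [← mul_assoc, hzp2, one_mul]
      have cc' : ∀ t, wval y (rpt 9 zpB) * (zval y * t) = zval y * (wval y (rpt 9 zpB) * t) := fun t => by
        rw [← mul_assoc, hcomm, mul_assoc]
      rcases iha with e | e | e | e <;> rcases ihb with e' | e' | e' | e' <;> rw [e, e'] <;>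
        simp [mul_assoc, zz, hzp2, zz', pp', cc', hcomm]
    | inv a _ iha =>
      rw [Subgroup.coe_inv]
      have zi : (zval y)⁻¹ = zval y := inv_eq_of_mul_eq_one_left zz
      have pi : (wval y (rpt 9 zpB))⁻¹ = wval y (rpt 9 zpB) := inv_eq_of_mul_eq_one_left hzp2
      rcases iha with e | e | e | e <;> rw [e] <;> simp [zi, pi, hcomm]
  obtain ⟨s, hs⟩ := h.sgn_word
  rcases hmem R ((QuotientGroup.eq_one_iff _).1 hone) with e | e | e | e
  · have := congrArg s e
    rw [hs _ hr, hlenr, map_one] at this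
    exact absurd this (by decide)
  · exact Or.inl e
  · exact Or.inr e
  · have := congrArg s e
    rw [map_mul, zval, hs _ hr, hs _ hzl, hs _ hzp, hlenr, hlen, hlenp] at this
    exact absurd this (by decide)

/-- A graph all of whose joined letters commute has equal letters. -/
theorem eq_of_comm_braid {y : ℕ → G} (h : Cox y) {a b : ℕ} (ha : a < 16) (hb : b < 16) (hab : adj a b = true)
    (hc : Commute (y a) (y b)) : y a = y b := by
  have e := h.braid a ha b hb hab
  rw [mul_assoc, ← hc.eq, ← mul_assoc, h.sq a ha, one_mul, mul_assoc, h.sq b hb, mul_one] at e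
  exact e.symm

theorem collapse {y : ℕ → G} (h : Cox y) (h4 : y 4 = y 3) :
    ∀ l ∈ [0, 1, 2, 3, 4, 5, 6, 7, 8, 11, 12], y l = y 4 := by
  have com := fun a b (ha : a < 16) (hb : b < 16) (hne : a ≠ b) (hadj : adj a b = false) =>
    (h.com a ha b hb hne hadj : Commute (y a) (y b))
  have e2 : y 2 = y 4 := (eq_of_comm_braid h (a := 2) (b := 3) (by norm_num) (by norm_num) (by decide)
    (h4 ▸ com 2 4 (by norm_num) (by norm_num) (by norm_num) (by decide))).trans h4.symm
  have e1 : y 1 = y 4 := (eq_of_comm_braid h (a := 1) (b := 2) (by norm_num) (by norm_num) (by decide)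
    (e2 ▸ com 1 4 (by norm_num) (by norm_num) (by norm_num) (by decide))).trans e2
  have e0 : y 0 = y 4 := (eq_of_comm_braid h (a := 0) (b := 1) (by norm_num) (by norm_num) (by decide)
    (e1 ▸ com 0 4 (by norm_num) (by norm_num) (by norm_num) (by decide))).trans e1
  have step : ∀ a b : ℕ, a < 16 → b < 16 → adj a b = true → adj a 4 = false → a ≠ 4 → y b = y 4 → y a = y 4 :=
    fun a b ha hb hab ha4 hne hb4 =>
      (eq_of_comm_braid h ha hb hab (hb4 ▸ com a 4 ha (by norm_num) hne ha4)).trans hb4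
  have e6 := step 6 0 (by norm_num) (by norm_num) (by decide) (by decide) (by norm_num) e0
  have e11 := step 11 0 (by norm_num) (by norm_num) (by decide) (by decide) (by norm_num) e0
  have e7 := step 7 6 (by norm_num) (by norm_num) (by decide) (by decide) (by norm_num) e6
  have e8 := step 8 7 (by norm_num) (by norm_num) (by decide) (by decide) (by norm_num) e7
  have e12 := step 12 11 (by norm_num) (by norm_num) (by decide) (by decide) (by norm_num) e11
  have e5 : y 5 = y 4 := eq_of_comm_braid h (by norm_num) (by norm_num) (by decide)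
    (h4.symm ▸ com 5 3 (by norm_num) (by norm_num) (by norm_num) (by decide))
  intro l hl
  fin_cases hl
  exacts [e0, e1, e2, h4.symm, rfl, e5, e6, e7, e8, e11, e12]

/-- Either the reflection in the highest root is the ninth power, or all letters coincide. -/
theorem rho_or_collapse {y : ℕ → G} (h : Sys y) :
    wval y rho = zval y ∨ ∀ l ∈ [0, 1, 2, 3, 4, 5, 6, 7, 8, 11, 12], y l = y 4 := by
  refine (rho_cases h).imp_right fun e => collapse h.cox ?_
  obtain ⟨-, -, -, -, -, -, -, -, -, eR, cpe, -, -, hr, -, hzp, hlow, -⟩ := rho_checks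
  have hc : Commute (wval y rho) (y 4) := e ▸ h.cox.comm_of_triv hzp (by norm_num) cpe
  have e2 := h.cox.eq_of_triv hlow eR
  rw [wval_app, wval_app, wval_app, wval_app, wval_single, mul_assoc, hc.eq, ← mul_assoc, h.cox.sq 4 (by norm_num),
    one_mul] at e2
  have sq : wval y rho * wval y rho = 1 := by
    have := rho_eq h.cox
    rw [this]
    simp [mul_assoc, ← mul_assoc (y 4) (y 4), h.cox.sq 4]
  rw [mul_assoc, sq, mul_one] at e2
  have hd := rho_comm_L9 h 3 (by decide)
  rw [e2] at hd
  exact eq_of_comm_braid h.cox (by norm_num) (by norm_num) (by decide) hd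

end Cfsg.Lib.SpiderYFive
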