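import Cfsg.Agent.CosetCert.Kit

/-!
Reductions of words in sixteen involutions satisfying the braid relations of the graph with three arms of length five,
and facts read off traced coset certificates.
-/

set_option autoImplicit false

namespace Cfsg.Lib.SpiderYFive

open Cfsg.Lib.CosetCert

/-- The edges of the graph: the centre is 0, the arms are 1-5, 6-10 and 11-15. -/
def edgeList : List (ℕ × ℕ) :=
  [(0, 1), (1, 2), (2, 3), (3, 4), (4, 5), (0, 6), (6, 7), (7, 8), (8, 9), (9, 10), (0, 11), (11, 12), (12, 13),
    (13, 14), (14, 15)]

/-- Adjacency. -/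
def adj (x y : ℕ) : Bool := edgeList.contains (x, y) || edgeList.contains (y, x)

variable {G : Type*} [Group G]

/-- The braid relations. -/
structure Cox (y : ℕ → G) : Prop where
  sq : ∀ a < 16, y a * y a = 1
  com : ∀ a < 16, ∀ b < 16, a ≠ b → adj a b = false → y a * y b = y b * y a
  braid : ∀ a < 16, ∀ b < 16, adj a b = true → y a * y b * y a = y b * y a * y b

/-- Whether all letters are below sixteen. -/
def low (w : List ℕ) : Bool := w.all fun l => decide (l < 16)

/-- One move: a cancellation, a commutation or a braid move at a position. -/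
def moveStep (w : List ℕ) (m : ℕ) : Option (List ℕ) :=
  match w.drop (m / 3) with
  | x :: x' :: r =>
    if m % 3 = 0 then (if x = x' then some (w.take (m / 3) ++ r) else none)
    else if m % 3 = 1 then
      (if x ≠ x' ∧ adj x x' = false then some (w.take (m / 3) ++ x' :: x :: r) else none)
    else match r with
      | x'' :: r' => if x'' = x ∧ adj x x' = true then some (w.take (m / 3) ++ x' :: x :: x' :: r') else none
      | [] => none
  | _ => none

/-- The moves carry the word to the empty word. -/
def reducesTo : List ℕ → List ℕ → Bool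
  | [], w => w.isEmpty
  | m :: ms, w => match moveStep w m with
    | some v => reducesTo ms v
    | none => false

theorem low_iff {w : List ℕ} : low w = true ↔ ∀ l ∈ w, l < 16 := by simp [low]

theorem wval_cons' (y : ℕ → G) (x : ℕ) (w : List ℕ) : wval y (x :: w) = y x * wval y w := by simp [wval]

theorem wval_app (y : ℕ → G) (v w : List ℕ) : wval y (v ++ w) = wval y v * wval y w := by simp [wval]

theorem moveStep_sound {y : ℕ → G} (h : Cox y) {w v : List ℕ} {m : ℕ} (hw : low w = true)
    (hs : moveStep w m = some v) : wval y v = wval y w ∧ low v = true := by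
  rw [low_iff] at hw ⊢
  have hd := List.take_append_drop (m / 3) w
  unfold moveStep at hs
  split at hs
  case h_2 => simp at hs
  rename_i x x' r e
  rw [e] at hd
  have hx : x < 16 := hw x (hd ▸ by simp)
  have hx' : x' < 16 := hw x' (hd ▸ by simp)
  have ht : ∀ l ∈ w.take (m / 3), l < 16 := fun l hl => hw l (List.mem_of_mem_take hl)
  have hr : ∀ l ∈ r, l < 16 := fun l hl => hw l (hd ▸ by simp [hl])
  conv => enter [1, 2, 2]; rw [← hd]
  split_ifs at hs with h0 h1 h2 h3
  · cases hs
    subst h1
    refine ⟨?_, fun l hl => ?_⟩
    · rw [wval_app, wval_app, wval_cons', wval_cons', ← mul_assoc (y x), h.sq x hx, one_mul]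
    · rcases List.mem_append.1 hl with hl | hl
      exacts [ht l hl, hr l hl]
  · cases hs
    refine ⟨?_, fun l hl => ?_⟩
    · rw [wval_app, wval_app, wval_cons', wval_cons', wval_cons', wval_cons', ← mul_assoc (y x), ← mul_assoc (y x'),
        h.com x hx x' hx' h3.1 h3.2]
    · simp only [List.mem_append, List.mem_cons] at hl
      rcases hl with hl | rfl | rfl | hl
      exacts [ht l hl, hx', hx, hr l hl]
  · split at hs
    case h_2 => simp at hs
    rename_i x'' r'
    split_ifs at hs with h4
    cases hs
    obtain ⟨rfl, h4⟩ := h4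
    refine ⟨?_, fun l hl => ?_⟩
    · have e' := h.braid x'' hx x' hx' h4
      simp only [wval_app, wval_cons']
      have e2 : ∀ t : G, y x'' * (y x' * (y x'' * t)) = y x' * (y x'' * (y x' * t)) := fun t => by
        simp only [← mul_assoc, e']
      rw [e2]
    · simp only [List.mem_append, List.mem_cons] at hl
      rcases hl with hl | rfl | rfl | rfl | hl
      exacts [ht l hl, hx', hx, hx', hr l (List.mem_cons_of_mem _ hl)]

theorem reducesTo_sound {y : ℕ → G} (h : Cox y) : ∀ {ms w : List ℕ}, low w = true → reducesTo ms w = true →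
    wval y w = 1
  | [], w, _, hr => by
    obtain rfl : w = [] := by simpa [reducesTo] using hr
    rfl
  | m :: ms, w, hw, hr => by
    simp only [reducesTo] at hr
    split at hr
    · next v e =>
      obtain ⟨e', hv⟩ := moveStep_sound h hw e
      exact e' ▸ reducesTo_sound h hv hr
    · simp at hr

/-- A checked trivial word. -/
def triv (ms w : List ℕ) : Bool := low w && reducesTo ms w

theorem triv_sound {y : ℕ → G} (h : Cox y) {ms w : List ℕ} (ht : triv ms w = true) : wval y w = 1 := by
  simp only [triv, Bool.and_eq_true] at ht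
  exact reducesTo_sound h ht.1 ht.2

/-- Substitute words for letters. -/
def expand (E : List (List ℕ)) (w : List ℕ) : List ℕ := w.flatMap fun l => E.getD l []

theorem wval_expand (y : ℕ → G) (E : List (List ℕ)) : ∀ w : List ℕ,
    wval (fun k => wval y (E.getD k [])) w = wval y (expand E w)
  | [] => rfl
  | l :: w => by
    rw [wval_cons', wval_expand y E w]
    simp [expand, wval_app]

/-- The closed path of a traced word puts it in the subgroup. -/
theorem trace_mem (C : Cert) {im : ℕ → G} {K : Subgroup G} {n : ℕ} (hold : ∀ i < n, C.Holds im K i)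
    (hng : C.ng ≤ 15) (hinv : ∀ l, l < C.ng → im l * im l = 1) {rs w : List ℕ}
    (hwalk : C.walk n rs 0 0 = some (0, wcode w)) (hlet : ∀ l ∈ w, l < 15) : wval im w ∈ K := by
  obtain ⟨v, hv, hc, hm⟩ := walk_sound C im hng hinv hold rs 0 0 [] (by simp) (by simp [wval]) _
    (by simpa [wcode] using hwalk)
  rw [wcode_inj hlet hv hc]
  have e : C.rep im 0 = 1 := by rw [Cert.rep, dif_neg (by omega)]
  simpa [e] using hm

end Cfsg.Lib.SpiderYFive
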