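import Cfsg.Agent.SpiderYFive.Words

/-!
Generated: the letters of each certificate as words, and why its relators hold.
-/

set_option autoImplicit false

namespace Cfsg.Lib.SpiderYFive

def C0Exp : List (List ℕ) := [[0], [1], [2], [3], [6], [7], [11], [12], [11,0,6,1,0,11,12,11,0,1,6,0,11]]

def C0Moves : List (List ℕ) := [[0],
  [0],
  [0],
  [0],
  [0],
  [0],
  [0],
  [0],
  [36,33,30,27,24,21,18,15,12,9,6,3,0],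
  [1,3,0],
  [1,3,0],
  [1,3,0],
  [1,3,0],
  [1,3,0],
  [1,3,0],
  [1,3,0],
  [1,3,0],
  [1,3,0],
  [1,3,0],
  [1,3,0],
  [1,3,0],
  [1,3,0],
  [1,3,0],
  [1,3,0],
  [1,3,0],
  [1,3,0],
  [1,3,0],
  [1,3,0],
  [1,3,0],
  [1,3,0],
  [2,6,3,0],
  [2,6,3,0],
  [2,6,3,0],
  [2,6,3,0],
  [2,6,3,0],
  [2,6,3,0],
  [2,6,3,0],
  [36,33,30,27,24,21,18,15,12,9,6,3,0],
  []]

def C1Exp : List (List ℕ) := [[0], [1], [2], [3], [4], [6], [7], [11], [12], [3,2,1,0,11,6,0,1,2,3,4,3,2,1,0,6,11,0,1,2,3]]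

def C1Moves : List (List ℕ) := [[0],
  [0],
  [0],
  [0],
  [0],
  [0],
  [0],
  [0],
  [0],
  [60,57,54,51,48,45,42,39,36,33,30,27,24,21,18,15,12,9,6,3,0],
  [1,3,0],
  [1,3,0],
  [1,3,0],
  [1,3,0],
  [1,3,0],
  [1,3,0],
  [1,3,0],
  [1,3,0],
  [1,3,0],
  [1,3,0],
  [1,3,0],
  [1,3,0],
  [1,3,0],
  [1,3,0],
  [1,3,0],
  [1,3,0],
  [1,3,0],
  [1,3,0],
  [1,3,0],
  [1,3,0],
  [1,3,0],
  [1,3,0],
  [1,3,0],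
  [1,3,0],
  [1,3,0],
  [1,3,0],
  [1,3,0],
  [1,3,0],
  [2,6,3,0],
  [2,6,3,0],
  [2,6,3,0],
  [2,6,3,0],
  [2,6,3,0],
  [2,6,3,0],
  [2,6,3,0],
  [2,6,3,0],
  [60,57,54,51,48,45,42,39,36,33,30,27,24,21,18,15,12,9,6,3,0],
  []]

def C4Exp : List (List ℕ) := [[0], [1], [2], [3], [4], [6], [7], [11], [12], [8], [3,2,1,0,11,6,0,1,2,3,4,3,2,1,0,6,11,0,1,2,3], [3,2,1,0,6,11,0,1,2,3,12,11,0,1,2,6,0,1,11,0,6,12,11,0,1,2,3,4,7,4,3,2,1,0,11,12,6,0,11,1,0,6,2,1,0,11,12,3,2,1,0,11,6,0,1,2,3]]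

def C4Moves : List (List ℕ) := [[0],
  [0],
  [0],
  [0],
  [0],
  [0],
  [0],
  [0],
  [0],
  [0],
  [60,57,54,51,48,45,42,39,36,33,30,27,24,21,18,15,12,9,6,3,0],
  [82,84,79,81,76,78,73,75,70,72,67,69,64,66,126,123,120,117,114,111,108,105,102,99,96,93,90,87,84,81,78,75,72,69,66,64,67,70,73,76,79,82,84,81,78,75,72,69,66,63,60,57,54,51,48,45,42,39,36,33,30,27,24,21,18,15,12,9,6,3,0],
  [1,3,0],
  [1,3,0],
  [1,3,0],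
  [1,3,0],
  [1,3,0],
  [1,3,0],
  [1,3,0],
  [1,3,0],
  [1,3,0],
  [1,3,0],
  [1,3,0],
  [1,3,0],
  [1,3,0],
  [1,3,0],
  [1,3,0],
  [1,3,0],
  [1,3,0],
  [1,3,0],
  [1,3,0],
  [1,3,0],
  [1,3,0],
  [1,3,0],
  [1,3,0],
  [1,3,0],
  [1,3,0],
  [1,3,0],
  [1,3,0],
  [1,3,0],
  [1,3,0],
  [1,3,0],
  [1,3,0],
  [1,3,0],
  [1,3,0],
  [1,3,0],
  [1,3,0],
  [1,3,0],
  [2,6,3,0],
  [2,6,3,0],
  [2,6,3,0],
  [2,6,3,0],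
  [2,6,3,0],
  [2,6,3,0],
  [2,6,3,0],
  [2,6,3,0],
  [2,6,3,0],
  [60,57,54,51,48,45,42,39,36,33,30,27,24,21,18,15,12,9,6,3,0],
  [82,84,79,81,76,78,73,75,70,72,67,69,64,66,126,123,120,117,114,111,108,105,102,99,96,93,90,87,84,81,78,75,72,69,66,64,67,70,73,76,79,82,84,81,78,75,72,69,66,63,60,57,54,51,48,45,42,39,36,33,30,27,24,21,18,15,12,9,6,3,0],
  []]

def C5Exp : List (List ℕ) := [[0], [1], [2], [3], [4], [5], [6], [7], [11], [12], [4,3,2,1,0,11,12,6,0,11,1,0,6,2,1,0,11,12,3,2,1,0,11,6,0,1,2,3,4,3,2,1,0,6,11,0,1,2,3,12,11,0,1,2,6,0,1,11,0,6,12,11,0,1,2,3,4]]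

def C5Moves : List (List ℕ) := [[0],
  [0],
  [0],
  [0],
  [0],
  [0],
  [0],
  [0],
  [0],
  [0],
  [168,165,162,159,156,153,150,147,144,141,138,135,132,129,126,123,120,117,114,111,108,105,102,99,96,93,90,87,84,81,78,75,72,69,66,63,60,57,54,51,48,45,42,39,36,33,30,27,24,21,18,15,12,9,6,3,0],
  [1,3,0],
  [1,3,0],
  [1,3,0],
  [1,3,0],
  [1,3,0],
  [1,3,0],
  [1,3,0],
  [1,3,0],
  [1,3,0],
  [1,3,0],
  [1,3,0],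
  [1,3,0],
  [1,3,0],
  [1,3,0],
  [1,3,0],
  [1,3,0],
  [1,3,0],
  [1,3,0],
  [1,3,0],
  [1,3,0],
  [1,3,0],
  [1,3,0],
  [1,3,0],
  [1,3,0],
  [1,3,0],
  [1,3,0],
  [1,3,0],
  [1,3,0],
  [1,3,0],
  [1,3,0],
  [1,3,0],
  [1,3,0],
  [1,3,0],
  [1,3,0],
  [1,3,0],
  [1,3,0],
  [2,6,3,0],
  [2,6,3,0],
  [2,6,3,0],
  [2,6,3,0],
  [2,6,3,0],
  [2,6,3,0],
  [2,6,3,0],
  [2,6,3,0],
  [2,6,3,0],
  [168,165,162,159,156,153,150,147,144,141,138,135,132,129,126,123,120,117,114,111,108,105,102,99,96,93,90,87,84,81,78,75,72,69,66,63,60,57,54,51,48,45,42,39,36,33,30,27,24,21,18,15,12,9,6,3,0],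
  [],
  []]

end Cfsg.Lib.SpiderYFive
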