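import Cfsg.Agent.SpiderYFive.Mid
import Cfsg.Agent.SpiderYFive.C5Check
import Cfsg.Agent.SpiderYFive.C6Check
import Cfsg.Agent.SpiderYFive.RepData

/-!
The outermost letter of a long arm is the reflection in the highest root.
-/

set_option autoImplicit false

set_option maxRecDepth 8000

namespace Cfsg.Lib.SpiderYFive

open Cfsg.Lib.CosetCert Cfsg.Lib.PermCert
open Cfsg.Lib.FiPres (rpt)

/-- A word in the free group on eleven letters. -/
def free11 (w : List ℕ) : FreeGroup (Fin 11) := (w.map fun l => FreeGroup.of (Fin.ofNat 11 l)).prod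

/-- The auxiliary presented group on eleven letters. -/
abbrev PFive := PresentedGroup {r : FreeGroup (Fin 11) | ∃ w ∈ C5.rels, r = free11 w}

/-- Its letters. -/
def imF (n : ℕ) : PFive := PresentedGroup.of (Fin.ofNat 11 n)

theorem imF_rel {w : List ℕ} (hw : w ∈ C5.rels) : wval imF w = 1 := by
  have : wval imF w = PresentedGroup.mk {r : FreeGroup (Fin 11) | ∃ w ∈ C5.rels, r = free11 w} (free11 w) := by
    rw [free11, map_list_prod, List.map_map]
    rfl
  rw [this]
  exact PresentedGroup.one_of_mem ⟨w, hw, rfl⟩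

theorem rels5_ok : (C5.rels.all fun r => r.all fun l => decide (l < 11)) = true ∧
    ((List.range 11).all fun l => C5.rels.contains [l, l]) = true := by decide +kernel

theorem imF_sq {l : ℕ} (hl : l < 11) : imF l * imF l = 1 := by
  simpa [wval] using imF_rel (List.contains_iff_mem.1 (List.all_eq_true.1 rels5_ok.2 l (List.mem_range.2 hl)))

theorem lift11 {H : Type*} [Group H] (f : ℕ → H) (hf : ∀ w ∈ C5.rels, wval f w = 1) :
    ∀ r ∈ {r : FreeGroup (Fin 11) | ∃ w ∈ C5.rels, r = free11 w}, FreeGroup.lift (fun x : Fin 11 => f x.val) r = 1 := by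
  rintro r ⟨w, hw, rfl⟩
  rw [free11, map_list_prod, List.map_map]
  refine Eq.trans ?_ (hf w hw)
  refine congrArg List.prod (List.map_congr_left fun l hl => ?_)
  rw [Function.comp_apply, FreeGroup.lift_apply_of]
  have := List.all_eq_true.1 (List.all_eq_true.1 rels5_ok.1 w hw) l hl
  rw [decide_eq_true_eq] at this
  exact congrArg f (Nat.mod_eq_of_lt this)

/-- The letters of the second certificate. -/
def lam6 : List ℕ := [0, 1, 2, 3, 4, 6, 7, 8, 9, 10]
/-- The letters of the point stabiliser. -/
def lamK : List ℕ := [0, 1, 2, 3, 6, 7, 8, 9]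

theorem c5_ok : C5.cert.ng = 11 ∧ (C5.cert.subs.all fun l => lam6.contains l && decide (l < 11)) = true ∧
    (C5.cert.walk C5.allSteps.length C5.trace 0 0 == some (0, wcode [5])) = true := by decide +kernel

theorem f_mem : imF 5 ∈ lgp imF lam6 := by
  obtain ⟨hng, hsubs, hwalk⟩ := c5_ok
  rw [beq_iff_eq] at hwalk
  have hinv : ∀ l, l < C5.cert.ng → imF l * imF l = 1 := fun l hl => imF_sq (hng ▸ hl)
  have hlt : ∀ r ∈ C5.rels, ∀ l ∈ r, imF l * imF l = 1 := fun r hr l hl =>
    imF_sq (decide_eq_true_eq.mp (List.all_eq_true.1 (List.all_eq_true.1 rels5_ok.1 r hr) l hl))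
  have hsub : ∀ s ∈ C5.cert.subs, imF s ∈ lgp imF lam6 := fun s hs => by
    have := List.all_eq_true.1 hsubs s hs
    rw [Bool.and_eq_true, List.contains_iff_mem] at this
    exact lgp_mem imF this.1
  have hold := steps_sound C5.cert imF (by omega) hinv C5.spec_ok (fun r hr => imF_rel hr) hlt hsub C5.allSteps 0
    C5.allSteps_ok.1 C5.allSteps_ok.2 (by omega)
  have := trace_mem C5.cert (fun i hi => hold i (by omega)) (by omega) hinv hwalk (by simp)
  rwa [wval_single] at this

theorem lam6_top : lgp imF lam6 = ⊤ := by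
  refine top_le_iff.1 ?_
  rw [← PresentedGroup.closure_range_of, Subgroup.closure_le]
  rintro _ ⟨x, rfl⟩
  have e : imF x.val = PresentedGroup.of x := congrArg PresentedGroup.of (Fin.ext (Nat.mod_eq_of_lt x.isLt))
  rw [SetLike.mem_coe, ← e]
  by_cases h5 : x.val = 5
  · rw [h5]; exact f_mem
  · refine lgp_mem imF ?_
    have := x.isLt
    simp only [lam6, List.mem_cons, List.mem_nil_iff, or_false]
    omega

theorem c6_ok : C6.cert.ng = lam6.length ∧
    (C6.rels.all fun r => (r.all fun l => decide (l < lam6.length)) && C5.rels.contains (r.map (pickL lam6))) = true ∧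
    (C6.cert.subs.all fun s => lamK.contains (pickL lam6 s)) = true ∧
    (lam6.all fun l => decide (l < 11)) = true := by decide +kernel

theorem index_bound : (lgp imF lamK).index ≠ 0 ∧ (lgp imF lamK).index ≤ 1080 := by
  obtain ⟨hng, hrel, hsubs, hlam⟩ := c6_ok
  simp only [List.all_eq_true, Bool.and_eq_true, decide_eq_true_eq, List.contains_iff_mem] at hrel
  set K := lgp imF lamK
  let g : ℕ → PFive := fun k => imF (pickL lam6 k)
  have hsq : ∀ l, l < C6.cert.ng → g l * g l = 1 := fun l hl => by
    rw [hng] at hl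
    refine imF_sq ?_
    rw [pickL, List.getD_eq_getElem _ _ hl]
    exact decide_eq_true_eq.mp (List.all_eq_true.1 hlam _ (List.getElem_mem hl))
  have key : ∀ a : PFive, ∃ k ∈ C6.cert.fin, a * (C6.cert.rep g k)⁻¹ ∈ K := fun a => by
    refine exists_coset C6.cert g (L := ⊤) C6.valid hsq (fun r hr => ?_)
      (fun r hr l hl => hsq l (hng ▸ (hrel r hr).1 l hl))
      (fun s hs => lgp_mem imF (List.contains_iff_mem.1 (List.all_eq_true.1 hsubs s hs))) ?_ (Subgroup.mem_top a)
    · rw [wval_comp]
      exact imF_rel (hrel r hr).2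
    · rw [← lam6_top]
      refine (Subgroup.closure_le _).2 ?_
      rintro _ ⟨l, hl, rfl⟩
      obtain ⟨k, hk, rfl⟩ := List.getElem_of_mem hl
      exact Subgroup.subset_closure ⟨k, hng ▸ hk, by show imF (pickL lam6 k) = _; rw [pickL, List.getD_eq_getElem _ _ hk]⟩
  let f : Fin C6.cert.fin.length → PFive ⧸ K := fun i => ((C6.cert.rep g C6.cert.fin[i.val])⁻¹ : PFive)
  have hf : Function.Surjective f := by
    intro q
    induction q using QuotientGroup.induction_on with
    | _ b =>
      obtain ⟨k, hk, hm⟩ := key b⁻¹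
      obtain ⟨i, hi, rfl⟩ := List.getElem_of_mem hk
      refine ⟨⟨i, hi⟩, ?_⟩
      rw [QuotientGroup.eq]
      have := K.inv_mem hm
      simpa [mul_inv_rev] using this
  haveI : Finite (PFive ⧸ K) := Finite.of_surjective f hf
  have h1 := Nat.card_le_card_of_surjective f hf
  rw [Nat.card_fin, C6.fins_length] at h1
  exact ⟨Nat.card_pos.ne', h1⟩

theorem tabs_valid : ((List.range 11).all fun l => valid 1080 (Rep.tabs.getD l (0, 0))) = true := by decide +kernel

theorem tabs_rels : (C5.rels.all fun r => isId 1080 (r.map fun l => Rep.tabs.getD l (0, 0))) = true := by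
  decide +kernel

/-- The letters as permutations. -/
def actF (l : ℕ) : Equiv.Perm (Fin 1080) := perm 1080 (Rep.tabs.getD l (0, 0))

theorem actF_rel : ∀ w ∈ C5.rels, wval actF w = 1 := by
  intro w hw
  have := isId_sound (w := w.map fun l => Rep.tabs.getD l (0, 0)) (fun g hg => by
    obtain ⟨l, hl, rfl⟩ := List.mem_map.1 hg
    exact List.all_eq_true.1 tabs_valid l (List.mem_range.2
      (decide_eq_true_eq.mp (List.all_eq_true.1 (List.all_eq_true.1 rels5_ok.1 w hw) l hl))))
    (List.all_eq_true.1 tabs_rels w hw)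
  rw [wperm, List.map_map] at this
  exact this

/-- The action on the cosets. -/
def psiF : PFive →* Equiv.Perm (Fin 1080) := PresentedGroup.toGroup (lift11 actF actF_rel)

theorem tabledF : Tabled imF psiF Rep.tabs where
  act l hl := by
    have h : l < 11 := hl
    refine ⟨List.all_eq_true.1 tabs_valid l (List.mem_range.2 h), ?_⟩
    refine (PresentedGroup.toGroup.of _).trans ?_
    exact congrArg actF (Nat.mod_eq_of_lt h)
  sq l hl := imF_sq hl

theorem tree_ok : (Rep.lev.ok Rep.tabs 1080 && Rep.lev.gens.all (fun w => w.all fun l => decide (l < Rep.tabs.length)) &&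
    (List.range 1080).all fun j => (treeMask Rep.lev.orb (1 <<< Rep.lev.b)).testBit j) = true := by decide +kernel

/-- The word carrying the reflection to the outermost letter. -/
def gWord : List ℕ := [4, 5] ++ pullBack C5Exp wW

theorem fix_ok : (lamK.all fun l => decide (l < 11) && (evalW Rep.tabs [l] 0 == 0)) = true ∧
    (gWord.all fun l => decide (l < 11)) = true ∧ (evalW Rep.tabs gWord 0 == 0) = true := by decide +kernel

theorem gWord_mem : wval imF gWord ∈ lgp imF lamK := by
  obtain ⟨hfix, hlet, hg⟩ := fix_ok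
  letI : MulAction PFive (Fin 1080) := MulAction.compHom (Fin 1080) psiF
  have hsmul : ∀ (g : PFive) (x : Fin 1080), g • x = psiF g x := fun _ _ => rfl
  haveI : MulAction.IsPretransitive PFive (Fin 1080) := tabledF.transitive hsmul tree_ok
  set K := lgp imF lamK
  set S := MulAction.stabilizer PFive (⟨0, by norm_num⟩ : Fin 1080)
  have hKS : K ≤ S := by
    refine (Subgroup.closure_le _).2 ?_
    rintro _ ⟨l, hl, rfl⟩
    have := List.all_eq_true.1 hfix l hl
    rw [Bool.and_eq_true, decide_eq_true_eq, beq_iff_eq] at this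
    rw [SetLike.mem_coe, MulAction.mem_stabilizer_iff]
    exact Fin.ext ((tabledF.im_smul hsmul this.1 _).trans this.2)
  have hS : S.index = 1080 := by
    rw [MulAction.index_stabilizer, MulAction.orbit_eq_univ, Set.ncard_univ, Nat.card_fin]
  have hmul := Subgroup.relIndex_mul_index hKS
  have hone : K.relIndex S = 1 := by
    obtain ⟨h0, h1⟩ := index_bound
    rw [hS] at hmul
    have : K.relIndex S * 1080 ≤ 1 * 1080 := by rw [hmul, one_mul]; exact h1
    have h2 := Nat.le_of_mul_le_mul_right this (by norm_num)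
    have h3 : K.relIndex S ≠ 0 := fun e => h0 (by rw [← hmul, e, zero_mul])
    omega
  refine Subgroup.relIndex_eq_one.1 hone ?_
  rw [MulAction.mem_stabilizer_iff, hsmul]
  have e := evalW_apply imF psiF Rep.tabs tabledF.act gWord
    (fun l hl => decide_eq_true_eq.mp (List.all_eq_true.1 hlet l hl)) (⟨0, by norm_num⟩ : Fin 1080)
  rw [beq_iff_eq.1 hg] at e
  have e' : (psiF (wval imF gWord))⁻¹ ⟨0, by norm_num⟩ = ⟨0, by norm_num⟩ := Fin.ext e
  conv_lhs => rw [← e']
  simp

theorem c5exp_ok : relsCheck 11 C5.rels C5Exp C5Moves [rpt 10 spiderB, rpt 9 zB ++ rho] = true ∧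
    expand C5Exp gWord = [4, 5] ++ wW ∧
    (lamK.map fun l => C5Exp.getD l []) = [[0], [1], [2], [3], [6], [7], [11], [12]] ∧
    triv rhoF_mv ((wW.reverse ++ [5, 4] ++ [5] ++ [4, 5] ++ wW) ++ rho.reverse) = true ∧
    (rpt 9 zB).length = 63 ∧ inLetters [0, 1, 2, 3, 6, 7, 11] (rpt 9 zB) = true := by
  decide +kernel

variable {G : Type*} [Group G]

theorem f_eq_zval {y : ℕ → G} (h : Sys y) : y 5 = zval y := by
  obtain ⟨hrel, hexp, hlam, hF, hlen, hin⟩ := c5exp_ok
  rcases rho_or_collapse h with hrz | hall
  · obtain ⟨-, -, -, -, -, -, -, -, -, -, -, -, hW, hr, -⟩ := rho_checks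
    have hknown : ∀ w ∈ [rpt 10 spiderB, rpt 9 zB ++ rho], wval y w = 1 := by
      intro w hw
      rcases List.mem_cons.1 hw with rfl | hw
      · exact h.spider
      · rw [List.mem_singleton] at hw
        subst hw
        rw [wval_app, hrz]
        exact zval_sq h.cox
    obtain ⟨h1, -, -⟩ := relsCheck_sound h.cox hknown hrel
    let θ : PFive →* G := PresentedGroup.toGroup (lift11 (fun k => wval y (C5Exp.getD k [])) h1)
    have hθ : ∀ l, l < 11 → θ (imF l) = wval y (C5Exp.getD l []) := fun l hl =>
      (PresentedGroup.toGroup.of _).trans (congrArg (fun n => wval y (C5Exp.getD n [])) (Nat.mod_eq_of_lt hl))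
    have hgm : θ (wval imF gWord) = wval y ([4, 5] ++ wW) := by
      rw [map_wval, ← hexp, ← wval_expand]
      refine congrArg List.prod (List.map_congr_left fun l hl => hθ l ?_)
      exact decide_eq_true_eq.mp (List.all_eq_true.1 fix_ok.2.1 l hl)
    have hcomm : Commute (wval y ([4, 5] ++ wW)) (y 5) := by
      have hsub : lgp imF lamK ≤ (Subgroup.centralizer {y 5}).comap θ := by
        refine (Subgroup.closure_le _).2 ?_
        rintro _ ⟨l, hl, rfl⟩
        have hmem := List.mem_map_of_mem (f := fun l => C5Exp.getD l []) hl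
        rw [hlam] at hmem
        rw [SetLike.mem_coe, Subgroup.mem_comap, Subgroup.mem_centralizer_singleton_iff,
          hθ l ((show ∀ l ∈ lamK, l < 11 by decide) l hl)]
        refine (show Commute _ (y 5) from ?_).eq
        generalize C5Exp.getD l [] = w at hmem ⊢
        fin_cases hmem <;> rw [wval_single] <;>
          exact h.cox.com _ (by norm_num) _ (by norm_num) (by norm_num) (by decide)
      exact hgm ▸ Subgroup.mem_centralizer_singleton_iff.1 (hsub gWord_mem)
    have e := h.cox.eq_of_triv hr hF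
    have hrev : wval y (wW.reverse ++ [5, 4]) = (wval y ([4, 5] ++ wW))⁻¹ := by
      rw [← h.cox.inv (by simp [low] at hW ⊢; exact hW), List.reverse_append]
      rfl
    rw [wval_app, wval_app, wval_app, mul_assoc, hrev, wval_single] at e
    rw [show wval y [4, 5] * wval y wW = wval y ([4, 5] ++ wW) from (wval_app _ _ _).symm, mul_assoc, ← hcomm.eq,
      ← mul_assoc, inv_mul_cancel, one_mul] at e
    rw [e, hrz]
  · have hw : ∀ w : List ℕ, inLetters [0, 1, 2, 3, 6, 7, 11] w = true → wval y w = y 4 ^ w.length := by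
      intro w hw
      induction w with
      | nil => simp [wval]
      | cons a w ih =>
        simp only [inLetters, List.all_cons, Bool.and_eq_true, List.contains_iff_mem] at hw
        rw [wval_cons', ih (by simpa [inLetters] using hw.2), List.length_cons, pow_succ',
          hall a ((show ∀ a ∈ [0, 1, 2, 3, 6, 7, 11], a ∈ [0, 1, 2, 3, 4, 5, 6, 7, 8, 11, 12] by decide) a hw.1)]
    rw [zval, hw _ hin, hlen, hall 5 (by decide), show 63 = 2 * 31 + 1 from rfl, pow_succ, pow_mul, pow_two,
      h.cox.sq 4 (by norm_num), one_pow, one_mul]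

end Cfsg.Lib.SpiderYFive
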