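import Cfsg.Agent.SpiderYFive.RelMoves
import Cfsg.Agent.FiPres.Relators

/-!
Sixteen involutions on the graph with three arms of length five satisfying the spider relation: symmetry in the arms,
and subgroup membership from traced certificates.
-/

set_option autoImplicit false

namespace Cfsg.Lib.SpiderYFive

open Cfsg.Lib.CosetCert
open Cfsg.Lib.FiPres (rpt wval_rpt)

variable {G : Type*} [Group G]

/-- The hypotheses. -/
structure Sys (y : ℕ → G) : Prop where
  cox : Cox y
  spider : wval y (rpt 10 spiderB) = 1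
  sgn : ∃ s : G →* ℤˣ, ∀ a < 16, s (y a) = -1

theorem wval_comp (y : ℕ → G) (p : ℕ → ℕ) (w : List ℕ) : wval (fun n => y (p n)) w = wval y (w.map p) := by
  rw [wval, wval, List.map_map]
  rfl

theorem Cox.inv {y : ℕ → G} (h : Cox y) {w : List ℕ} (hw : low w = true) :
    wval y w.reverse = (wval y w)⁻¹ :=
  wval_reverse y fun l hl => h.sq l (low_iff.1 hw l hl)

theorem Cox.eq_of_triv {y : ℕ → G} (h : Cox y) {ms u v : List ℕ} (hv : low v = true)
    (ht : triv ms (u ++ v.reverse) = true) : wval y u = wval y v := by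
  have := triv_sound h ht
  rwa [wval_app, h.inv hv, mul_inv_eq_one] at this

theorem Cox.comm_of_triv {y : ℕ → G} (h : Cox y) {ms w : List ℕ} {x : ℕ} (hw : low w = true) (hx : x < 16)
    (ht : triv ms (w ++ x :: (w.reverse ++ [x])) = true) : Commute (wval y w) (y x) := by
  have := triv_sound h ht
  rw [wval_app, wval_cons', wval_app, h.inv hw, show wval y [x] = y x by simp [wval]] at this
  have hxx : (y x)⁻¹ = y x := inv_eq_of_mul_eq_one_left (h.sq x hx)
  have e : wval y w * y x * (wval y w)⁻¹ = y x := by
    rw [← mul_assoc, ← mul_assoc] at this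
    rw [eq_inv_of_mul_eq_one_left this, hxx]
  exact mul_inv_eq_iff_eq_mul.1 e

/-- The sign of a word. -/
theorem Sys.sgn_word {y : ℕ → G} (h : Sys y) : ∃ s : G →* ℤˣ, ∀ w : List ℕ, low w = true →
    s (wval y w) = (-1) ^ w.length := by
  obtain ⟨s, hs⟩ := h.sgn
  refine ⟨s, fun w => ?_⟩
  induction w with
  | nil => intro _; simp [wval]
  | cons a w ih =>
    intro hw
    have hw' := low_iff.1 hw
    rw [wval_cons', map_mul, hs a (hw' a List.mem_cons_self),
      ih (low_iff.2 fun l hl => hw' l (List.mem_cons_of_mem a hl)), List.length_cons, pow_succ']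

/-- A permutation of the letters preserving the graph. -/
def permOK (p : List ℕ) : Bool :=
  (List.range 16).all fun a => decide (p.getD a 0 < 16) &&
    (List.range 16).all fun b => (decide (a = b) || decide (p.getD a 0 ≠ p.getD b 0)) &&
      (adj (p.getD a 0) (p.getD b 0) == adj a b)

/-- The permutation carries the spider word to a conjugate of itself or its reverse. -/
def spiderOK (p : List ℕ) (d : Bool × List ℕ × List ℕ) : Bool :=
  low d.2.1 && triv d.2.2
    (spiderB.map (fun n => p.getD n 0) ++ (d.2.1 ++ ((if d.1 then spiderB.reverse else spiderB).reverse ++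
      d.2.1.reverse)))

theorem perms_ok : (List.zip armPerms spiderMoves).all (fun e => permOK e.1 && spiderOK e.1 e.2) = true ∧
    low spiderB = true := by decide +kernel

theorem Sys.permute {y : ℕ → G} (h : Sys y) {p : List ℕ} {d : Bool × List ℕ × List ℕ}
    (hp : (p, d) ∈ List.zip armPerms spiderMoves) : Sys (fun n => y (p.getD n 0)) := by
  have hok := List.all_eq_true.1 perms_ok.1 _ hp
  simp only [Bool.and_eq_true, permOK, spiderOK, List.all_eq_true, List.mem_range, decide_eq_true_eq,
    Bool.or_eq_true, beq_iff_eq] at hok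
  obtain ⟨hperm, hX, ht⟩ := hok
  refine ⟨⟨fun a ha => h.cox.sq _ (hperm a ha).1, fun a ha b hb hab hadj => ?_, fun a ha b hb hadj => ?_⟩, ?_, ?_⟩
  · obtain ⟨h1, h2⟩ := (hperm a ha).2 b hb
    exact h.cox.com _ (hperm a ha).1 _ (hperm b hb).1 (h1.resolve_left hab) (h2.trans hadj)
  · obtain ⟨-, h2⟩ := (hperm a ha).2 b hb
    exact h.cox.braid _ (hperm a ha).1 _ (hperm b hb).1 (h2.trans hadj)
  · have hrev : low spiderB.reverse = true := by decide
    have hs0 := h.spider
    rw [wval_rpt] at hs0
    have e := triv_sound h.cox ht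
    rw [wval_app, wval_app, wval_app, h.cox.inv hX,
      h.cox.inv (by split <;> first | exact hrev | exact perms_ok.2)] at e
    have key : wval y (spiderB.map fun n => p.getD n 0) =
        wval y d.2.1 * wval y (if d.1 then spiderB.reverse else spiderB) * (wval y d.2.1)⁻¹ := by
      rw [eq_inv_of_mul_eq_one_left e]
      group
    have hss : wval y (if d.1 then spiderB.reverse else spiderB) ^ 10 = 1 := by
      split
      · rw [h.cox.inv perms_ok.2, inv_pow, hs0, inv_one]
      · exact hs0
    rw [wval_rpt, wval_comp, key, conj_pow, hss, mul_one, mul_inv_cancel]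
  · obtain ⟨s, hs⟩ := h.sgn
    exact ⟨s, fun a ha => hs _ (hperm a ha).1⟩

/-- The relators of a certificate hold for the given expansions. -/
def relsCheck (ng : ℕ) (R : List (List ℕ)) (E : List (List ℕ)) (Mv known : List (List ℕ)) : Bool :=
  decide (R.length = Mv.length) &&
    (List.zip R Mv).all (fun e => known.contains (expand E e.1) || triv e.2 (expand E e.1)) &&
    R.all (fun r => r.all fun l => decide (l < ng)) && (List.range ng).all fun l => R.contains [l, l]

theorem relsCheck_sound {y : ℕ → G} (h : Cox y) {ng : ℕ} {R E Mv known : List (List ℕ)}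
    (hknown : ∀ w ∈ known, wval y w = 1) (hc : relsCheck ng R E Mv known = true) :
    (∀ r ∈ R, wval (fun k => wval y (E.getD k [])) r = 1) ∧ (∀ r ∈ R, ∀ l ∈ r, l < ng) ∧
    ∀ l < ng, wval y (E.getD l []) * wval y (E.getD l []) = 1 := by
  simp only [relsCheck, Bool.and_eq_true, decide_eq_true_eq, List.all_eq_true, List.mem_range,
    Bool.or_eq_true, List.contains_iff_mem] at hc
  obtain ⟨⟨⟨hlen, hz⟩, hlt⟩, hsq⟩ := hc
  have h1 : ∀ r ∈ R, wval (fun k => wval y (E.getD k [])) r = 1 := by
    intro r hr
    obtain ⟨i, hi, rfl⟩ := List.getElem_of_mem hr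
    have hi' : i < (List.zip R Mv).length := by rw [List.length_zip]; omega
    have := hz _ (List.getElem_mem hi')
    rw [List.getElem_zip] at this
    rw [wval_expand]
    rcases this with hk | ht
    exacts [hknown _ hk, triv_sound h ht]
  exact ⟨h1, hlt, fun l hl => by simpa [wval] using h1 _ (hsq l hl)⟩

/-- A traced certificate puts a word into the subgroup. -/
theorem cert_mem {y : ℕ → G} (h : Cox y) (C : Cert) {R E Mv known : List (List ℕ)}
    {spec : List (ℕ × ℕ × Bool)} {js : List (ℕ × ℕ)} (hng : C.ng ≤ 15) (hrot : C.rotsOK R spec = true)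
    (hsteps : C.stepsOK 0 js = true ∧ ruleBound spec.length js = true) (hknown : ∀ w ∈ known, wval y w = 1)
    (hc : relsCheck C.ng R E Mv known = true) {K : Subgroup G} (hsub : ∀ s ∈ C.subs, wval y (E.getD s []) ∈ K)
    {rs w v : List ℕ} (hwalk : ((C.walk js.length rs 0 0 == some (0, wcode w)) &&
      w.all (fun l => decide (l < 15)) && (expand E w == v)) = true) : wval y v ∈ K := by
  simp only [Bool.and_eq_true, beq_iff_eq, List.all_eq_true, decide_eq_true_eq] at hwalk
  obtain ⟨⟨hw, hlet⟩, rfl⟩ := hwalk
  obtain ⟨h1, h2, h3⟩ := relsCheck_sound h hknown hc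
  have hold := steps_sound C (fun k => wval y (E.getD k [])) hng h3 hrot h1 (fun r hr l hl => h3 l (h2 r hr l hl))
    hsub js 0 hsteps.1 hsteps.2 (by omega)
  rw [← wval_expand]
  exact trace_mem C (fun i hi => hold i (by omega)) hng h3 hw hlet

end Cfsg.Lib.SpiderYFive
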